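import Groth.Agent.CalgC.RegLocal
import Mathlib.RingTheory.KrullDimension.Basic
import Mathlib.RingTheory.Ideal.Height
import Mathlib.RingTheory.Ideal.KrullsHeightTheorem

/-!
# Dimension and embedding dimension lemmas
* `height_add_ringKrullDim_quotient_le`: `ht p + dim S/p ≤ dim S`.
* `spanFinrank_maximalIdeal_le`: `edim A ≤ μ(I) + edim (A/I)` for a Noetherian local ring.
-/

set_option autoImplicit false

universe u

namespace K80.DimLemmas

open IsLocalRing

theorem height_add_ringKrullDim_quotient_le {S : Type*} [CommRing S] (p : Ideal S) [hp : p.IsPrime] :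
    (p.height : WithBot ℕ∞) + ringKrullDim (S ⧸ p) ≤ ringKrullDim S := by
  have : Nonempty (PrimeSpectrum S) := ⟨⟨p, hp⟩⟩
  have h1 : (PrimeSpectrum.zeroLocus (p : Set S)) = Set.Ici (⟨p, hp⟩ : PrimeSpectrum S) := by
    ext q
    rfl
  rw [ringKrullDim_quotient, h1, ← Order.coheight_eq_krullDim_Ici,
    show p.height = Order.height (⟨p, hp⟩ : PrimeSpectrum S) from
      PrimeSpectrum.height_eq_orderHeight ⟨p, hp⟩, ringKrullDim,
    Order.krullDim_eq_iSup_height_add_coheight_of_nonempty, ← WithBot.coe_add, WithBot.coe_le_coe]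
  exact le_iSup (fun a : PrimeSpectrum S => Order.height a + Order.coheight a) ⟨p, hp⟩

theorem spanFinrank_maximalIdeal_le {A : Type u} [CommRing A] [IsLocalRing A] [IsNoetherianRing A]
    (I : Ideal A) [IsLocalRing (A ⧸ I)] (hI : I ≤ maximalIdeal A) :
    (maximalIdeal A).spanFinrank ≤ I.spanFinrank + (maximalIdeal (A ⧸ I)).spanFinrank := by
  have surj : Function.Surjective (algebraMap A (A ⧸ I)) := Ideal.Quotient.mk_surjective
  have hker : RingHom.ker (algebraMap A (A ⧸ I)) = I := Ideal.mk_ker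
  have h1 := Groth.Agent.CalgC.RegLocal.embdim_eq (R := A) (B := A ⧸ I) surj
  have h2 := Groth.Agent.CalgC.RegLocal.length_imCot_le (R := A) (RingHom.ker (algebraMap A (A ⧸ I)))
    (by rw [hker]; exact hI)
  have h3 : ((maximalIdeal A).spanFinrank : ℕ∞) ≤
      (RingHom.ker (algebraMap A (A ⧸ I))).spanFinrank + (maximalIdeal (A ⧸ I)).spanFinrank := by
    rw [h1]; exact add_le_add h2 le_rfl
  rw [hker] at h3
  exact_mod_cast h3

end K80.DimLemmas
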