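import Groth.Agent.FlatA.FibreCrit2
import Groth.Agent.CalgA.RegBasic
import Mathlib.Algebra.Module.SpanRankOperations
import Mathlib.RingTheory.RegularLocalRing.Defs
import Mathlib.LinearAlgebra.TensorProduct.Tower
import Mathlib.RingTheory.Flat.Basic

/-!
# Embedding dimension in flat local homomorphisms with regular closed fibre
* `spanFinrank_maximalIdeal_eq_of_map_eq`: `A → B` flat local with `m_A B = m_B`: `edim B = edim A`.
* `spanFinrank_maximalIdeal_eq_add`: `A → B` flat local, closed fibre regular of dimension `n`: `edim B = n + edim A`.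
-/

set_option autoImplicit false
universe u v

namespace K80.FlatRegFibre

open IsLocalRing TensorProduct

theorem finrank_residueField_tensor {R : Type*} {M : Type*} [CommRing R] [IsLocalRing R]
    [AddCommGroup M] [Module R M] (N : Submodule R M) (fg : N.FG) :
    Module.finrank (ResidueField R) (ResidueField R ⊗[R] N) = N.spanFinrank := by
  rw [← TensorProduct.spanFinrank_top_eq_of_residueField N fg, Module.finrank_eq_spanFinrank_of_free]

section base

variable {A B : Type*} [CommRing A] [CommRing B] [Algebra A B] [Module.Flat A B]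

/-- `B ⊗ I → I B` for a flat algebra. -/
theorem exists_equiv_map (I : Ideal A) :
    Nonempty ((B ⊗[A] I) ≃ₗ[B] (I.map (algebraMap A B))) := by
  let f : B ⊗[A] I →ₗ[B] B := LinearMap.liftBaseChange B (Algebra.linearMap A B ∘ₗ I.subtype)
  have hf : ∀ b x, f (b ⊗ₜ x) = b * algebraMap A B x := fun b x => by
    simp [f]
  have hinj : Function.Injective f := by
    have h1 : Function.Injective (I.subtype.lTensor B) :=
      Module.Flat.lTensor_preserves_injective_linearMap _ I.injective_subtype
    have h2 : ∀ z, f z = TensorProduct.rid A B (I.subtype.lTensor B z) := by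
      intro z
      induction z using TensorProduct.induction_on with
      | zero => simp
      | add x y hx hy => rw [map_add, map_add, map_add, hx, hy]
      | tmul b x =>
        rw [hf, LinearMap.lTensor_tmul, TensorProduct.rid_tmul, Algebra.smul_def, mul_comm]
        rfl
    intro x y hxy
    rw [h2, h2] at hxy
    exact h1 ((TensorProduct.rid A B).injective hxy)
  have hrange : LinearMap.range f = I.map (algebraMap A B) := by
    apply le_antisymm
    · rintro _ ⟨z, rfl⟩
      induction z using TensorProduct.induction_on with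
      | zero => simp
      | add x y hx hy => rw [map_add]; exact add_mem hx hy
      | tmul b x =>
        rw [hf]
        exact Ideal.mul_mem_left _ _ (Ideal.mem_map_of_mem _ x.2)
    · rw [Ideal.map, Ideal.span, Submodule.span_le]
      rintro _ ⟨x, hx, rfl⟩
      exact ⟨1 ⊗ₜ ⟨x, hx⟩, by rw [hf, one_mul]⟩
  exact ⟨(LinearEquiv.ofInjective f hinj).trans (LinearEquiv.ofEq _ _ hrange)⟩

theorem spanFinrank_maximalIdeal_eq_of_map_eq [IsLocalRing A] [IsLocalRing B] [IsNoetherianRing A]
    [IsNoetherianRing B] [IsLocalHom (algebraMap A B)]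
    (h : (maximalIdeal A).map (algebraMap A B) = maximalIdeal B) :
    (maximalIdeal B).spanFinrank = (maximalIdeal A).spanFinrank := by
  obtain ⟨e⟩ := exists_equiv_map (A := A) (B := B) (maximalIdeal A)
  rw [h] at e
  rw [← finrank_residueField_tensor (maximalIdeal B) (IsNoetherian.noetherian _),
    ← finrank_residueField_tensor (maximalIdeal A) (IsNoetherian.noetherian _)]
  have e1 : ResidueField B ⊗[B] (maximalIdeal B) ≃ₗ[ResidueField B]
      ResidueField B ⊗[B] (B ⊗[A] (maximalIdeal A)) :=
    e.symm.baseChange B (ResidueField B) _ _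
  have e2 : ResidueField B ⊗[B] (B ⊗[A] (maximalIdeal A)) ≃ₗ[ResidueField B]
      ResidueField B ⊗[A] (maximalIdeal A) :=
    AlgebraTensorModule.cancelBaseChange A B (ResidueField B) (ResidueField B) (maximalIdeal A)
  have e3 : ResidueField B ⊗[ResidueField A] (ResidueField A ⊗[A] (maximalIdeal A))
      ≃ₗ[ResidueField B] ResidueField B ⊗[A] (maximalIdeal A) :=
    AlgebraTensorModule.cancelBaseChange A (ResidueField A) (ResidueField B) (ResidueField B)
      (maximalIdeal A)
  rw [e1.finrank_eq, e2.finrank_eq, ← e3.finrank_eq, Module.finrank_baseChange]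

end base

open Groth.Agent.CalgA.RegBasic in
theorem spanFinrank_maximalIdeal_eq_add {A : Type u} [CommRing A] [IsLocalRing A]
    [IsNoetherianRing A] (n : ℕ) : ∀ (B : Type v) [CommRing B] [IsLocalRing B] [IsNoetherianRing B]
    [Algebra A B] [IsLocalHom (algebraMap A B)] [Module.Flat A B]
    [IsRegularLocalRing (B ⧸ (maximalIdeal A).map (algebraMap A B))],
    ringKrullDim (B ⧸ (maximalIdeal A).map (algebraMap A B)) = n →
    (maximalIdeal B).spanFinrank = n + (maximalIdeal A).spanFinrank := by
  induction n with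
  | zero =>
    intro B _ _ _ _ _ _ hreg hdim
    rw [zero_add]
    refine spanFinrank_maximalIdeal_eq_of_map_eq ?_
    have h1 := IsRegularLocalRing.spanFinrank_maximalIdeal
      (R := B ⧸ (maximalIdeal A).map (algebraMap A B))
    rw [hdim] at h1
    have h2 : (maximalIdeal (B ⧸ (maximalIdeal A).map (algebraMap A B))).spanFinrank = 0 := by
      exact_mod_cast h1
    rw [Submodule.spanFinrank_eq_zero_iff_eq_bot (IsNoetherian.noetherian _)] at h2
    rw [← map_maximalIdeal_quotient, Ideal.map_eq_bot_iff_le_ker, Ideal.mk_ker] at h2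
    exact le_antisymm (map_maximalIdeal_le _) h2
  | succ n ih =>
    intro B _ _ _ _ _ _ hreg hdim
    set I := (maximalIdeal A).map (algebraMap A B) with hI
    have hdom : IsDomain (B ⧸ I) := isDomain (B ⧸ I)
    obtain ⟨y, hy, hy2⟩ : ∃ y ∈ maximalIdeal (B ⧸ I), y ∉ maximalIdeal (B ⧸ I) ^ 2 := by
      by_contra hcon
      push Not at hcon
      have h1 : maximalIdeal (B ⧸ I) ≤ maximalIdeal (B ⧸ I) ^ 2 := hcon
      have h2 : maximalIdeal (B ⧸ I) = ⊥ := by
        refine Submodule.eq_bot_of_le_smul_of_le_jacobson_bot (maximalIdeal (B ⧸ I)) _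
          (IsNoetherian.noetherian _) ?_ (maximalIdeal_le_jacobson _)
        rw [smul_eq_mul, ← pow_two]; exact h1
      have h3 := IsRegularLocalRing.spanFinrank_maximalIdeal (R := B ⧸ I)
      rw [h2, Submodule.spanFinrank_bot, hdim] at h3
      have h4 : (0 : ℕ) = n + 1 := by exact_mod_cast h3
      omega
    obtain ⟨x, rfl⟩ := Ideal.Quotient.mk_surjective y
    have hloc : IsLocalHom (Ideal.Quotient.mk I) :=
      IsLocalHom.of_surjective _ Ideal.Quotient.mk_surjective
    have hx : x ∈ maximalIdeal B := by
      rw [← maximalIdeal_comap (Ideal.Quotient.mk I)]; exact hy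
    have hx2 : x ∉ maximalIdeal B ^ 2 := by
      intro h
      apply hy2
      rw [← map_maximalIdeal_quotient, ← Ideal.map_pow]
      exact Ideal.mem_map_of_mem _ h
    have hne : Ideal.span {x} ≠ ⊤ := by
      rw [Ideal.ne_top_iff_one]
      intro h
      exact (maximalIdeal.isMaximal B).ne_top ((Ideal.eq_top_iff_one _).mpr
        ((Ideal.span_singleton_le_iff_mem _).mpr hx h))
    have hlocC : IsLocalRing (B ⧸ Ideal.span {x}) := isLocalRing_quotient _ hne
    have hlocx : IsLocalHom (Ideal.Quotient.mk (Ideal.span {x})) :=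
      IsLocalHom.of_surjective _ Ideal.Quotient.mk_surjective
    have hlocAC : IsLocalHom (algebraMap A (B ⧸ Ideal.span {x})) := by
      rw [IsScalarTower.algebraMap_eq A B (B ⧸ Ideal.span {x})]
      exact RingHom.isLocalHom_comp (Ideal.Quotient.mk (Ideal.span {x})) (algebraMap A B)
    have hx0 : Ideal.Quotient.mk I x ≠ 0 := by
      intro h0
      apply hy2
      rw [h0]; exact Ideal.zero_mem _
    have hflat : Module.Flat A (B ⧸ Ideal.span {x}) :=
      (Groth.Agent.FlatA.FibreCrit2.quotient_flat_of_nonzerodivisor_in_fibre (R := A) (S := B)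
        ((map_maximalIdeal_le _).trans (maximalIdeal_le_jacobson _)) x (by
          intro z hz
          rw [← hI, ← Ideal.Quotient.eq_zero_iff_mem, map_mul] at hz
          rw [← hI, ← Ideal.Quotient.eq_zero_iff_mem]
          exact (mul_eq_zero.mp hz).resolve_left hx0)).1
    -- the fibre of `B ⧸ x`
    have hmapC : (maximalIdeal A).map (algebraMap A (B ⧸ Ideal.span {x})) =
        I.map (Ideal.Quotient.mk (Ideal.span {x})) := by
      rw [hI, Ideal.map_map]; rfl
    obtain ⟨hregq, hdimq⟩ := quotient_of_notMem_sq (Ideal.Quotient.mk I x) hy hy2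
    let e1 : ((B ⧸ I) ⧸ (Ideal.span {x}).map (Ideal.Quotient.mk I)) ≃+*
        ((B ⧸ Ideal.span {x}) ⧸ I.map (Ideal.Quotient.mk (Ideal.span {x}))) :=
      DoubleQuot.quotQuotEquivComm I (Ideal.span {x})
    let e2 : ((B ⧸ I) ⧸ Ideal.span {Ideal.Quotient.mk I x}) ≃+*
        ((B ⧸ I) ⧸ (Ideal.span {x}).map (Ideal.Quotient.mk I)) :=
      Ideal.quotEquivOfEq (by rw [Ideal.map_span, Set.image_singleton])
    let e3 : ((B ⧸ Ideal.span {x}) ⧸ I.map (Ideal.Quotient.mk (Ideal.span {x}))) ≃+*
        ((B ⧸ Ideal.span {x}) ⧸ (maximalIdeal A).map (algebraMap A (B ⧸ Ideal.span {x}))) :=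
      Ideal.quotEquivOfEq hmapC.symm
    let e := (e2.trans e1).trans e3
    have hregC : IsRegularLocalRing
        ((B ⧸ Ideal.span {x}) ⧸ (maximalIdeal A).map (algebraMap A (B ⧸ Ideal.span {x}))) :=
      IsRegularLocalRing.of_ringEquiv e
    have hdimC : ringKrullDim
        ((B ⧸ Ideal.span {x}) ⧸ (maximalIdeal A).map (algebraMap A (B ⧸ Ideal.span {x}))) = n := by
      rw [← ringKrullDim_eq_of_ringEquiv e]
      rw [hdim] at hdimq
      have h5 : ((n + 1 : ℕ) : WithBot ℕ∞) = (n : WithBot ℕ∞) + 1 := by norm_cast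
      rw [h5] at hdimq
      exact ENat.WithBot.add_one_cancel.mp hdimq
    have hih := ih (B ⧸ Ideal.span {x}) hdimC
    have h6 := spanFinrank_quotient_add_one_le x hx hx2
    have h7 := spanFinrank_le_quotient_add_one x hx
    omega

end K80.FlatRegFibre
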