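import Mathlib
import Groth.Prelude.Def_CAlg
import Groth.Agent.S0341
import Groth.Agent.S0342
import Groth.Agent.S0343
import Groth.Agent.LoccohA.GorBC
import Groth.Agent.Ega4A.FlatRegular

/-!
# Gorenstein factorizations of local homomorphisms of Artinian rings

* `exists_fibreEquiv`: the fibre of a base change along a surjection.
* `exists_quotient`: a flat local algebra with Gorenstein closed fibre over an Artinian local ring,
  mapping onto an Artinian local ring, has an Artinian flat quotient with Gorenstein closed fibre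
  through which the map factors.
-/

set_option autoImplicit false

open IsLocalRing TensorProduct
open scoped Pointwise

universe u

namespace K80.GorFactor

/-- The fibre of a base change along a surjection. -/
theorem exists_fibreEquiv {P Q R : Type u} [CommRing P] [CommRing Q] [CommRing R] [Algebra P Q]
    [Algebra P R] (hρ : Function.Surjective (algebraMap P R)) (J : Ideal R) :
    Nonempty (((R ⊗[P] Q) ⧸ J.map (algebraMap R (R ⊗[P] Q))) ≃+*
      (Q ⧸ (J.comap (algebraMap P R)).map (algebraMap P Q))) := by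
  set K : Ideal P := J.comap (algebraMap P R) with hK
  set L : Ideal Q := K.map (algebraMap P Q) with hL
  have hker : RingHom.ker (algebraMap P R) ≤
      RingHom.ker ((Ideal.Quotient.mk L).comp (algebraMap P Q)) := by
    intro x hx
    rw [RingHom.mem_ker] at hx ⊢
    rw [RingHom.comp_apply, Ideal.Quotient.eq_zero_iff_mem]
    exact Ideal.mem_map_of_mem _ (by rw [hK, Ideal.mem_comap, hx]; exact J.zero_mem)
  let f₁ : R →+* Q ⧸ L := RingHom.liftOfSurjective (algebraMap P R) hρ
    ⟨(Ideal.Quotient.mk L).comp (algebraMap P Q), hker⟩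
  have hf₁ : ∀ x : P, f₁ (algebraMap P R x) = Ideal.Quotient.mk L (algebraMap P Q x) := fun x ↦
    RingHom.liftOfRightInverse_comp_apply (algebraMap P R) _ (Function.rightInverse_surjInv hρ)
      ⟨(Ideal.Quotient.mk L).comp (algebraMap P Q), hker⟩ x
  let f₂ : R →ₐ[P] Q ⧸ L := { f₁ with commutes' := fun x ↦ hf₁ x }
  let χ : R ⊗[P] Q →ₐ[P] Q ⧸ L := Algebra.TensorProduct.lift f₂ (Ideal.Quotient.mkₐ P L)
    (fun _ _ ↦ Commute.all _ _)
  have hχ1 : ∀ r : R, χ (algebraMap R (R ⊗[P] Q) r) = f₁ r := fun r ↦ by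
    rw [Algebra.TensorProduct.algebraMap_apply, Algebra.TensorProduct.lift_tmul, map_one, mul_one]
    rfl
  have hχ2 : ∀ q : Q, χ ((1 : R) ⊗ₜ[P] q) = Ideal.Quotient.mk L q := fun q ↦ by
    rw [Algebra.TensorProduct.lift_tmul, map_one, one_mul]
    rfl
  have hle : J.map (algebraMap R (R ⊗[P] Q)) ≤ RingHom.ker χ.toRingHom := by
    rw [Ideal.map_le_iff_le_comap]
    intro r hr
    obtain ⟨x, rfl⟩ := hρ r
    rw [Ideal.mem_comap, RingHom.mem_ker]
    change χ (algebraMap R (R ⊗[P] Q) (algebraMap P R x)) = 0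
    rw [hχ1, hf₁, Ideal.Quotient.eq_zero_iff_mem]
    exact Ideal.mem_map_of_mem _ hr
  let ψ : Q →+* (R ⊗[P] Q) ⧸ J.map (algebraMap R (R ⊗[P] Q)) :=
    (Ideal.Quotient.mk _).comp (Algebra.TensorProduct.includeRight : Q →ₐ[P] R ⊗[P] Q).toRingHom
  have hψ : Function.Surjective ψ := by
    intro y
    obtain ⟨z, rfl⟩ := Ideal.Quotient.mk_surjective y
    obtain ⟨q, hq⟩ : ∃ q : Q, (1 : R) ⊗ₜ[P] q = z := by
      induction z using TensorProduct.induction_on with
      | zero => exact ⟨0, TensorProduct.tmul_zero _ _⟩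
      | tmul r q =>
        obtain ⟨x, rfl⟩ := hρ r
        refine ⟨x • q, ?_⟩
        rw [TensorProduct.tmul_smul, TensorProduct.smul_tmul', Algebra.smul_def, mul_one]
      | add a b ha hb =>
        obtain ⟨q, rfl⟩ := ha
        obtain ⟨q', rfl⟩ := hb
        exact ⟨q + q', TensorProduct.tmul_add _ _ _⟩
    exact ⟨q, congrArg _ hq⟩
  have hkerψ : RingHom.ker ψ = L := by
    apply le_antisymm
    · intro q hq
      have h1 : (1 : R) ⊗ₜ[P] q ∈ J.map (algebraMap R (R ⊗[P] Q)) :=
        Ideal.Quotient.eq_zero_iff_mem.mp hq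
      have h2 : χ ((1 : R) ⊗ₜ[P] q) = 0 := hle h1
      rw [hχ2, Ideal.Quotient.eq_zero_iff_mem] at h2
      exact h2
    · rw [hL, Ideal.map_le_iff_le_comap]
      intro x hx
      rw [Ideal.mem_comap, RingHom.mem_ker]
      change Ideal.Quotient.mk _ ((1 : R) ⊗ₜ[P] (algebraMap P Q x)) = 0
      rw [Ideal.Quotient.eq_zero_iff_mem, Algebra.algebraMap_eq_smul_one, TensorProduct.tmul_smul,
        TensorProduct.smul_tmul', Algebra.smul_def, mul_one]
      exact Ideal.mem_map_of_mem (algebraMap R (R ⊗[P] Q)) hx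
  exact ⟨((Ideal.quotEquivOfEq hkerψ).symm.trans (RingHom.quotientKerEquivOfSurjective hψ)).symm⟩

variable {R S : Type u} [CommRing R] [CommRing S] [IsArtinianRing R] [IsLocalRing R]
  [IsArtinianRing S] [IsLocalRing S] [Algebra R S] [IsLocalHom (algebraMap R S)]

/-- If the closed fibre of a local algebra over an Artinian local ring has dimension zero, then the
algebra is Artinian. -/
theorem isArtinianRing_of_fibre {R : Type u} [CommRing R] [IsArtinianRing R] [IsLocalRing R]
    (R' : Type u) [CommRing R'] [IsNoetherianRing R'] [IsLocalRing R']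
    [Algebra R R'] [IsLocalHom (algebraMap R R')]
    (h : Ring.KrullDimLE 0 (R' ⧸ (maximalIdeal R).map (algebraMap R R'))) :
    IsArtinianRing R' := by
  have h1 : IsArtinianRing (R' ⧸ (maximalIdeal R).map (algebraMap R R')) :=
    isArtinianRing_iff_krullDimLE_zero.mpr h
  obtain ⟨n, hn⟩ := exists_maximalIdeal_pow_le_of_isArtinianRing_quotient
    ((maximalIdeal R).map (algebraMap R R'))
  obtain ⟨N, hN⟩ := (isArtinianRing_iff_isNilpotent_maximalIdeal R).mp inferInstance
  refine (isArtinianRing_iff_isNilpotent_maximalIdeal R').mpr ⟨n * N, ?_⟩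
  rw [pow_mul, Ideal.zero_eq_bot, eq_bot_iff]
  refine (Ideal.pow_right_mono hn N).trans ?_
  rw [← Ideal.map_pow, hN, Ideal.zero_eq_bot, Ideal.map_bot]

/-- An Artinian local ring is complete. -/
theorem isAdicComplete (R : Type u) [CommRing R] [IsArtinianRing R] [IsLocalRing R] :
    IsAdicComplete (maximalIdeal R) R := by
  obtain ⟨N, hN⟩ := (isArtinianRing_iff_isNilpotent_maximalIdeal R).mp inferInstance
  have key : ∀ n, N ≤ n → (maximalIdeal R) ^ n • (⊤ : Submodule R R) = ⊥ := by
    intro n hn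
    have h1 : (maximalIdeal R) ^ n = ⊥ := by
      rw [eq_bot_iff]
      exact (Ideal.pow_le_pow_right hn).trans (le_of_eq (by rw [hN, Ideal.zero_eq_bot]))
    rw [h1, Submodule.bot_smul]
  refine { haus' := fun x hx ↦ ?_, prec' := fun f hf ↦ ⟨f N, fun n ↦ ?_⟩ }
  · have h1 := hx N
    rw [key N le_rfl] at h1
    exact (SModEq.bot).mp h1
  · rcases le_total n N with h | h
    · exact hf h
    · have h1 := hf h
      rw [SModEq.sub_mem] at h1 ⊢
      have h2 : f N - f n ∈ (maximalIdeal R) ^ N • (⊤ : Submodule R R) := h1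
      rw [key N le_rfl, Submodule.mem_bot] at h2
      rw [sub_eq_zero.mp h2, sub_self]
      exact Submodule.zero_mem _

variable {R S : Type u} [CommRing R] [CommRing S] [IsArtinianRing R] [IsLocalRing R]
  [IsArtinianRing S] [IsLocalRing S] [Algebra R S] [IsLocalHom (algebraMap R S)]

/-- The conclusion of the factorization theorem. -/
def Fact (R S : Type u) [CommRing R] [CommRing S] [IsLocalRing R] [Algebra R S] : Prop :=
  ∃ (R' : Type u) (_ : CommRing R') (_ : Algebra R R'), IsArtinianRing R' ∧ IsLocalRing R' ∧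
    Module.Flat R R' ∧ IsLocalHom (algebraMap R R') ∧
    LocCoh.IsGorensteinLocalRing (R' ⧸ (IsLocalRing.maximalIdeal R).map (algebraMap R R')) ∧
    ∃ g : R' →ₐ[R] S, Function.Surjective g

theorem fact_aux (e : ℕ) : ∀ (R' : Type u) [CommRing R'] [IsNoetherianRing R'] [IsLocalRing R']
    [Algebra R R'] [IsLocalHom (algebraMap R R')] [Module.Flat R R']
    (_ : LocCoh.IsGorensteinLocalRing (R' ⧸ (maximalIdeal R).map (algebraMap R R')))
    (g : R' →ₐ[R] S) (_ : Function.Surjective g)
    (_ : ringKrullDim (R' ⧸ (maximalIdeal R).map (algebraMap R R')) = e), Fact R S := by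
  induction e with
  | zero =>
    intro R' _ _ _ _ _ _ hG g hg hdim
    refine ⟨R', inferInstance, inferInstance, isArtinianRing_of_fibre (R := R) R' ?_, inferInstance,
      inferInstance, inferInstance, hG, g, hg⟩
    rw [Ring.krullDimLE_iff, hdim]
  | succ e ih =>
    intro R' _ _ _ _ _ _ hG g hg hdim
    set I : Ideal R' := (maximalIdeal R).map (algebraMap R R') with hI
    obtain ⟨x, hx, hreg⟩ := Groth.Agent.Localalg.GorDepth.exists_isSMulRegular (A := R' ⧸ I) (by
      intro h
      have h1 := (Ring.krullDimLE_iff (n := 0) (R := R' ⧸ I)).1 h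
      rw [hdim] at h1
      norm_cast at h1)
    obtain ⟨f, rfl⟩ := Ideal.Quotient.mk_surjective x
    have hf : f ∈ maximalIdeal R' := by
      have : IsLocalHom (Ideal.Quotient.mk I) :=
        IsLocalHom.of_surjective _ Ideal.Quotient.mk_surjective
      exact fun hu ↦ hx (hu.map _)
    obtain ⟨N, hN⟩ := (isArtinianRing_iff_isNilpotent_maximalIdeal S).mp inferInstance
    have hgl : IsLocalHom g.toRingHom := IsLocalHom.of_surjective _ hg
    have hgf : g f ∈ maximalIdeal S := fun hu ↦ hf (hgl.map_nonunit f hu)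
    set y : R' := f ^ (N + 1) with hy
    have hgy : g y = 0 := by
      rw [hy, map_pow, pow_succ]
      have h1 : (g f) ^ N ∈ (maximalIdeal S) ^ N := Ideal.pow_mem_pow hgf N
      rw [hN, Ideal.zero_eq_bot, Ideal.mem_bot] at h1
      rw [h1, zero_mul]
    have hym : y ∈ maximalIdeal R' := Ideal.pow_mem_of_mem _ hf _ (Nat.succ_pos N)
    have hyreg : IsSMulRegular (R' ⧸ I) (Ideal.Quotient.mk I y) := by
      rw [hy, map_pow]
      exact hreg.pow _
    have hym' : Ideal.Quotient.mk I y ∈ maximalIdeal (R' ⧸ I) := by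
      have : Nontrivial (R' ⧸ I) := inferInstance
      rw [hy, map_pow]
      exact Ideal.pow_mem_of_mem _ hx _ (Nat.succ_pos N)
    -- the quotient
    let J : Ideal R' := Ideal.span {y}
    have hJle : J ≤ maximalIdeal R' := (Ideal.span_singleton_le_iff_mem _).mpr hym
    have hJne : J ≠ ⊤ := fun h ↦ (maximalIdeal.isMaximal R').ne_top (top_le_iff.mp (h ▸ hJle))
    have hnt : Nontrivial (R' ⧸ J) := Ideal.Quotient.nontrivial_iff.mpr hJne
    have hloc : IsLocalRing (R' ⧸ J) :=
      IsLocalRing.of_surjective' (Ideal.Quotient.mk J) Ideal.Quotient.mk_surjective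
    have hlh : IsLocalHom (algebraMap R (R' ⧸ J)) := by
      have h1 : IsLocalHom (Ideal.Quotient.mk J) :=
        IsLocalHom.of_surjective _ Ideal.Quotient.mk_surjective
      have h2 : algebraMap R (R' ⧸ J) = (Ideal.Quotient.mk J).comp (algebraMap R R') := rfl
      rw [h2]
      exact RingHom.isLocalHom_comp _ _
    have hflat : Module.Flat R (R' ⧸ J) := by
      have hfl : Module.Flat R (QuotSMulTop y R') :=
        Groth.Agent.Ega4A.FlatRegular.flat_quotSMulTop (R := R) (S := R') (N := R') (by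
          let e0 : (R' ⧸ (maximalIdeal R).map (algebraMap R R') • (⊤ : Submodule R' R')) ≃ₗ[R']
              (R' ⧸ I) := Submodule.quotEquivOfEq _ _ (by
                rw [smul_eq_mul, Ideal.mul_top])
          rw [LinearEquiv.isSMulRegular_congr e0]
          exact hyreg)
      let e1 : QuotSMulTop y R' ≃ₗ[R'] (R' ⧸ J) :=
        Submodule.quotEquivOfEq (y • (⊤ : Submodule R' R')) J (by
          rw [← Submodule.ideal_span_singleton_smul, smul_eq_mul, Ideal.mul_top])
      exact Module.Flat.of_linearEquiv (e1.restrictScalars R).symm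
    -- the fibre
    let E : ((R' ⧸ J) ⧸ (maximalIdeal R).map (algebraMap R (R' ⧸ J))) ≃+*
        ((R' ⧸ I) ⧸ Ideal.span {Ideal.Quotient.mk I y}) :=
      ((Ideal.quotEquivOfEq (by
        change (maximalIdeal R).map ((Ideal.Quotient.mk J).comp (algebraMap R R')) =
          I.map (Ideal.Quotient.mk J)
        rw [← Ideal.map_map])).trans (DoubleQuot.quotQuotEquivComm J I)).trans
        (Ideal.quotEquivOfEq (by
          rw [Ideal.map_span, Set.image_singleton]))
    have hG' := (Groth.Agent.S0343.result (R' ⧸ I) (Ideal.Quotient.mk I y) hym' hyreg).mp hG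
    refine ih (R' ⧸ J) (Groth.Agent.LoccohA.GorBC.isGorensteinLocalRing_of_ringEquiv E.symm hG')
      (Ideal.Quotient.liftₐ J g (fun a ha ↦ ?_)) ?_ ?_
    · obtain ⟨b, rfl⟩ := Ideal.mem_span_singleton.mp ha
      rw [map_mul, hgy, zero_mul]
    · intro s
      obtain ⟨r, rfl⟩ := hg s
      exact ⟨Ideal.Quotient.mk J r, rfl⟩
    · rw [ringKrullDim_eq_of_ringEquiv E]
      have h3 := ringKrullDim_quotient_span_singleton_succ_eq_ringKrullDim hyreg hym'
      rw [hdim] at h3
      push_cast at h3
      exact ENat.WithBot.add_one_cancel.1 h3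

/-- The base change step. -/
theorem fact_of_square {P Q : Type u} [CommRing P] [CommRing Q] [IsLocalRing P] [IsLocalRing Q]
    [IsNoetherianRing Q] [Algebra P Q] [Algebra P R] [Algebra P S] [IsScalarTower P R S]
    [Module.Flat P Q] (hρ : Function.Surjective (algebraMap P R)) (σ : Q →ₐ[P] S)
    (hσ : Function.Surjective σ)
    (hreg : IsRegularLocalRing (Q ⧸ (maximalIdeal P).map (algebraMap P Q))) (e : ℕ)
    (hdim : ringKrullDim (Q ⧸ (maximalIdeal P).map (algebraMap P Q)) = e) : Fact R S := by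
  have hloc : IsLocalHom (algebraMap P R) := IsLocalHom.of_surjective _ hρ
  have hcomap : (maximalIdeal R).comap (algebraMap P R) = maximalIdeal P :=
    (IsLocalRing.local_hom_TFAE (algebraMap P R)).out 0 4 |>.mp hloc
  let g : R ⊗[P] Q →ₐ[R] S := Algebra.TensorProduct.lift (Algebra.ofId R S) σ
    (fun _ _ ↦ Commute.all _ _)
  have hg : Function.Surjective g := by
    intro s
    obtain ⟨q, rfl⟩ := hσ s
    refine ⟨1 ⊗ₜ q, ?_⟩
    rw [Algebra.TensorProduct.lift_tmul, map_one, one_mul]
  have hnt : Nontrivial (R ⊗[P] Q) := g.toRingHom.domain_nontrivial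
  have hs : Function.Surjective
      (Algebra.TensorProduct.includeRight : Q →ₐ[P] R ⊗[P] Q).toRingHom := by
    intro z
    induction z using TensorProduct.induction_on with
    | zero => exact ⟨0, TensorProduct.tmul_zero _ _⟩
    | tmul r q =>
      obtain ⟨x, rfl⟩ := hρ r
      refine ⟨x • q, ?_⟩
      change (1 : R) ⊗ₜ[P] (x • q) = _
      rw [TensorProduct.tmul_smul, TensorProduct.smul_tmul', Algebra.smul_def, mul_one]
    | add a b ha hb =>
      obtain ⟨q, rfl⟩ := ha
      obtain ⟨q', rfl⟩ := hb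
      exact ⟨q + q', map_add _ _ _⟩
  have hnoeth : IsNoetherianRing (R ⊗[P] Q) := isNoetherianRing_of_surjective _ _ _ hs
  have hlocal : IsLocalRing (R ⊗[P] Q) := IsLocalRing.of_surjective' _ hs
  have hlh : IsLocalHom (algebraMap R (R ⊗[P] Q)) := by
    constructor
    intro r hr
    have h1 : IsUnit (g (algebraMap R (R ⊗[P] Q) r)) := hr.map g
    rw [AlgHom.commutes] at h1
    exact isUnit_of_map_unit (algebraMap R S) r h1
  obtain ⟨E⟩ := exists_fibreEquiv (Q := Q) hρ (maximalIdeal R)
  rw [hcomap] at E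
  have hG : LocCoh.IsGorensteinLocalRing (Q ⧸ (maximalIdeal P).map (algebraMap P Q)) :=
    Groth.Agent.S0342.result _
  exact fact_aux e (R ⊗[P] Q)
    (Groth.Agent.LoccohA.GorBC.isGorensteinLocalRing_of_ringEquiv E.symm hG) g hg
    ((ringKrullDim_eq_of_ringEquiv E).trans hdim)

end K80.GorFactor
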