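import Groth.Agent.Lefpen.H702.LocAlg
import Mathlib.LinearAlgebra.Matrix.Rank
import Mathlib.RingTheory.Ideal.Cotangent

/-!
# The Jacobian matrix and the cotangent space at a rational point
* `finrank_cotangentSpace_add_rank`: `dim_κ m/m² + rank (∂F_i/∂X_j (a)) = n` for the local ring `O` of
  `A = k[X_1..X_n]/(F_1..F_r)` at the rational point `a`.
-/

set_option autoImplicit false
set_option linter.unusedSectionVars false
universe u

namespace K80.Jacobian

open IsLocalRing MvPolynomial
open Groth.Agent.Lefpen.H702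

variable {k : Type*} [Field k] {n r : ℕ} (F : Fin r → MvPolynomial (Fin n) k) (a : Fin n → k)

/-- The linear form `∑ c_j (X_j - a_j)`. -/
noncomputable def lin (c : Fin n → k) : MvPolynomial (Fin n) k := ∑ j, C (c j) * (X j - C (a j))

theorem lin_add (c d : Fin n → k) : lin a (c + d) = lin a c + lin a d := by
  simp only [lin, ← Finset.sum_add_distrib, Pi.add_apply, C_add, add_mul]

theorem lin_smul (t : k) (c : Fin n → k) : lin a (t • c) = C t * lin a c := by
  simp only [lin, Finset.mul_sum, Pi.smul_apply, smul_eq_mul, C_mul, mul_assoc]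

theorem lin_mem (c : Fin n → k) : lin a c ∈ AffAlg.ptIdeal a :=
  Ideal.sum_mem _ fun j _ => Ideal.mul_mem_left _ _ (AffAlg.X_sub_C_mem a j)

theorem eval_pderiv_lin (c : Fin n → k) (j : Fin n) : eval a (pderiv j (lin a c)) = c j := by
  rw [lin, AffAlg.eval_pderiv_sum, eval_C]

theorem lin_mem_iff (hF : ∀ i, eval a (F i) = 0) (c : Fin n → k) :
    lin a c ∈ AffAlg.ptIdeal a ^ 2 ⊔ Ideal.span (Set.range F) ↔
      c ∈ LinearMap.range (Matrix.mulVecLin
        (Matrix.of fun i j => eval a (pderiv j (F i)) : Matrix (Fin r) (Fin n) k).transpose) := by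
  rw [AffAlg.mem_sq_sup_span_iff a F hF]
  constructor
  · rintro ⟨-, b, hb⟩
    refine ⟨b, ?_⟩
    funext j
    have := hb j
    rw [eval_pderiv_lin] at this
    rw [this, Matrix.mulVecLin_apply, Matrix.mulVec, dotProduct]
    exact Finset.sum_congr rfl fun i _ => by
      rw [Matrix.transpose_apply, Matrix.of_apply, mul_comm]
  · rintro ⟨b, rfl⟩
    refine ⟨?_, b, fun j => ?_⟩
    · rw [← AffAlg.mem_ptIdeal_iff]; exact lin_mem a _
    · rw [eval_pderiv_lin, Matrix.mulVecLin_apply, Matrix.mulVec, dotProduct]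
      exact Finset.sum_congr rfl fun i _ => by
        rw [Matrix.transpose_apply, Matrix.of_apply, mul_comm]

variable {A O : Type*} [CommRing A] [CommRing O] [Algebra A O] [IsLocalRing O]

/-- The residue field of the localization at a maximal ideal is a quotient of the ring. -/
theorem residue_comp_surjective (𝔪 : Ideal A) [h𝔪 : 𝔪.IsMaximal] [IsLocalization.AtPrime O 𝔪] :
    Function.Surjective ((residue O).comp (algebraMap A O)) := by
  have hmO : 𝔪.map (algebraMap A O) = maximalIdeal O :=
    IsLocalization.AtPrime.map_eq_maximalIdeal 𝔪 O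
  intro w
  obtain ⟨w, rfl⟩ := residue_surjective w
  obtain ⟨x, s, rfl⟩ := IsLocalization.exists_mk'_eq 𝔪.primeCompl w
  obtain ⟨t, ht⟩ : ∃ t : A, t * s - 1 ∈ 𝔪 := by
    have hs : Ideal.Quotient.mk 𝔪 (s : A) ≠ 0 := fun h =>
      s.2 (Ideal.Quotient.eq_zero_iff_mem.mp h)
    let _ := Ideal.Quotient.field 𝔪
    obtain ⟨t, ht⟩ := Ideal.Quotient.mk_surjective ((Ideal.Quotient.mk 𝔪 (s : A))⁻¹)
    refine ⟨t, ?_⟩
    rw [← Ideal.Quotient.eq_zero_iff_mem, map_sub, map_mul, ht, inv_mul_cancel₀ hs,
      map_one, sub_self]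
  refine ⟨t * x, ?_⟩
  rw [RingHom.comp_apply, ← sub_eq_zero, ← map_sub, residue_eq_zero_iff]
  have h2 : algebraMap A O (t * x) - IsLocalization.mk' O x s =
      algebraMap A O (t * s - 1) * IsLocalization.mk' O x s := by
    have h3 : algebraMap A O s * IsLocalization.mk' O x s = algebraMap A O x :=
      IsLocalization.mk'_spec' O x s
    rw [map_mul, ← h3, map_sub, map_mul, map_one]
    ring
  rw [h2]
  refine Ideal.mul_mem_right _ _ ?_
  rw [← hmO]
  exact Ideal.mem_map_of_mem _ ht

/-- `k`-dimension of a vector space over a field `κ` with `k → κ` surjective. -/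
theorem finrank_eq_of_surjective {κ V : Type*} [Field κ] [Algebra k κ] [AddCommGroup V]
    [Module κ V] [Module k V] [IsScalarTower k κ V]
    (h : Function.Surjective (algebraMap k κ)) : Module.finrank k V = Module.finrank κ V := by
  have hk1 : Module.finrank k κ = 1 := by
    have e : k ≃ₗ[k] κ := LinearEquiv.ofBijective (Algebra.linearMap k κ)
      ⟨(algebraMap k κ).injective, h⟩
    rw [← e.finrank_eq, Module.finrank_self]
  rw [← Module.finrank_mul_finrank k κ V, hk1, one_mul]

/-- A `k`-linear map `k ^ n → m / m ^ 2` given by `n` elements of the maximal ideal. -/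
noncomputable def cotMap [Algebra k O] (t : Fin n → maximalIdeal O) :
    (Fin n → k) →ₗ[k] CotangentSpace O :=
  Fintype.linearCombination k fun j => (maximalIdeal O).toCotangent (t j)

theorem cotMap_apply [Algebra k O] (t : Fin n → maximalIdeal O) (c : Fin n → k) :
    cotMap t c = (maximalIdeal O).toCotangent (∑ j, algebraMap k O (c j) • t j) := by
  rw [cotMap, Fintype.linearCombination_apply, map_sum]
  refine Finset.sum_congr rfl fun j _ => ?_
  rw [map_smul, algebraMap_smul]

theorem cotMap_surjective [Algebra k O] (t : Fin n → maximalIdeal O)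
    (ht : maximalIdeal O = Ideal.span (Set.range fun j => (t j : O)))
    (hres : Function.Surjective ((residue O).comp (algebraMap k O))) :
    Function.Surjective (cotMap (k := k) t) := by
  intro z
  obtain ⟨⟨z, hz⟩, rfl⟩ := (maximalIdeal O).toCotangent_surjective z
  have hz' := hz
  rw [ht] at hz'
  obtain ⟨b, hb⟩ := Ideal.mem_span_range_iff_exists_fun.mp hz'
  choose c hc using fun j => hres (residue O (b j))
  refine ⟨c, ?_⟩
  rw [cotMap_apply, Ideal.toCotangent_eq]
  have h1 : ((∑ j, algebraMap k O (c j) • t j : maximalIdeal O) : O) - z =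
      ∑ j, (algebraMap k O (c j) - b j) * (t j : O) := by
    rw [← hb]
    simp only [AddSubmonoidClass.coe_finsetSum, Submodule.coe_smul, smul_eq_mul, sub_mul,
      Finset.sum_sub_distrib]
  rw [h1, pow_two]
  refine Ideal.sum_mem _ fun j _ => Ideal.mul_mem_mul ?_ (t j).2
  rw [← residue_eq_zero_iff, map_sub, ← hc j]
  exact sub_self _

section

variable [Algebra k A] [Algebra k O] [IsScalarTower k A O]
  (π : MvPolynomial (Fin n) k →ₐ[k] A)
  (hπ : Function.Surjective π)
  (𝔪 : Ideal A) [h𝔪' : 𝔪.IsMaximal] [IsLocalization.AtPrime O 𝔪]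
  (h𝔪 : 𝔪.comap π = AffAlg.ptIdeal a)

include h𝔪 in
theorem mem_max_iff (p : MvPolynomial (Fin n) k) :
    algebraMap A O (π p) ∈ maximalIdeal O ↔ p ∈ AffAlg.ptIdeal a := by
  rw [IsLocalization.AtPrime.to_map_mem_maximal_iff O 𝔪, ← h𝔪]
  rfl

include hπ h𝔪 in
theorem mem_max_sq_iff (hker : RingHom.ker π = Ideal.span (Set.range F))
    (p : MvPolynomial (Fin n) k) :
    algebraMap A O (π p) ∈ maximalIdeal O ^ 2 ↔
      p ∈ AffAlg.ptIdeal a ^ 2 ⊔ Ideal.span (Set.range F) := by
  have hmap : (AffAlg.ptIdeal a).map π = 𝔪 := by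
    rw [← h𝔪, Ideal.map_comap_of_surjective _ hπ]
  rw [← Ideal.mem_comap, LocAlg.comap_maximalIdeal_pow 𝔪 2, ← hmap, ← Ideal.map_pow, ← hker,
    ← Ideal.comap_map_of_surjective' π hπ]
  rfl

include hπ h𝔪 in
theorem maximalIdeal_eq_span :
    maximalIdeal O = Ideal.span (Set.range fun j => algebraMap A O (π (X j - C (a j)))) := by
  have hmap : (AffAlg.ptIdeal a).map π = 𝔪 := by
    rw [← h𝔪, Ideal.map_comap_of_surjective _ hπ]
  have hmO : 𝔪.map (algebraMap A O) = maximalIdeal O :=
    IsLocalization.AtPrime.map_eq_maximalIdeal 𝔪 O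
  rw [← hmO, ← hmap, AffAlg.ptIdeal, Ideal.map_span, Ideal.map_span, ← Set.range_comp,
    ← Set.range_comp]
  rfl

include hπ h𝔪 in
theorem residue_comp_algebraMap_surjective :
    Function.Surjective ((residue O).comp (algebraMap k O)) := by
  intro z
  obtain ⟨x, rfl⟩ := residue_comp_surjective (O := O) 𝔪 z
  obtain ⟨p, rfl⟩ := hπ x
  refine ⟨eval a p, ?_⟩
  rw [RingHom.comp_apply, RingHom.comp_apply, ← sub_eq_zero, ← map_sub, residue_eq_zero_iff]
  have h2 : algebraMap k O (eval a p) - algebraMap A O (π p) =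
      algebraMap A O (π (C (eval a p) - p)) := by
    rw [map_sub, map_sub, ← MvPolynomial.algebraMap_eq, AlgHom.commutes,
      ← IsScalarTower.algebraMap_apply]
  rw [h2, mem_max_iff a π 𝔪 h𝔪, ← neg_mem_iff, neg_sub]
  exact AffAlg.sub_C_mem a p

include hπ in
theorem finrank_cotangentSpace_add_rank (hker : RingHom.ker π = Ideal.span (Set.range F))
    (h𝔪 : 𝔪.comap π = RingHom.ker (MvPolynomial.eval a)) :
    Module.finrank (ResidueField O) (CotangentSpace O) +
      (Matrix.of fun i j => eval a (pderiv j (F i)) : Matrix (Fin r) (Fin n) k).rank = n := by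
  have hpt : 𝔪.comap π = AffAlg.ptIdeal a := by rw [h𝔪, AffAlg.ptIdeal_eq_ker]
  have hF : ∀ i, eval a (F i) = 0 := by
    intro i
    have h1 : F i ∈ RingHom.ker π := by
      rw [hker]; exact Ideal.subset_span ⟨i, rfl⟩
    have h2 : F i ∈ 𝔪.comap π := by
      rw [Ideal.mem_comap, show π (F i) = 0 from h1]; exact 𝔪.zero_mem
    rw [h𝔪] at h2
    exact h2
  let t : Fin n → maximalIdeal O := fun j => ⟨algebraMap A O (π (X j - C (a j))),
    (mem_max_iff a π 𝔪 hpt _).mpr (AffAlg.X_sub_C_mem a j)⟩
  have hres := residue_comp_algebraMap_surjective (O := O) a π hπ 𝔪 hpt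
  have hsurj := cotMap_surjective (k := k) t (maximalIdeal_eq_span a π hπ 𝔪 hpt) hres
  have hsum : ∀ c : Fin n → k, ((∑ j, algebraMap k O (c j) • t j : maximalIdeal O) : O) =
      algebraMap A O (π (lin a c)) := by
    intro c
    rw [lin, map_sum, map_sum]
    simp only [AddSubmonoidClass.coe_finsetSum, Submodule.coe_smul, smul_eq_mul]
    refine Finset.sum_congr rfl fun j _ => ?_
    have h : π (C (c j)) = algebraMap k A (c j) := π.commutes (c j)
    rw [map_mul, map_mul, h, ← IsScalarTower.algebraMap_apply]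
  have hkerθ : LinearMap.ker (cotMap (k := k) t) = LinearMap.range (Matrix.mulVecLin
        (Matrix.of fun i j => eval a (pderiv j (F i)) : Matrix (Fin r) (Fin n) k).transpose) := by
    ext c
    rw [LinearMap.mem_ker, cotMap_apply, Ideal.toCotangent_eq_zero, hsum,
      mem_max_sq_iff F a π hπ 𝔪 hpt hker, lin_mem_iff F a hF]
  have hrn := LinearMap.finrank_range_add_finrank_ker (cotMap (k := k) t)
  rw [hkerθ, LinearMap.range_eq_top.mpr hsurj, finrank_top, Module.finrank_fin_fun] at hrn
  have htow : IsScalarTower k (ResidueField O) (CotangentSpace O) := by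
    refine IsScalarTower.of_algebraMap_smul fun t x => ?_
    rw [IsScalarTower.algebraMap_apply k O (ResidueField O), algebraMap_smul, algebraMap_smul]
  have h4 : Module.finrank k (CotangentSpace O) =
      Module.finrank (ResidueField O) (CotangentSpace O) :=
    finrank_eq_of_surjective (by
      intro z
      obtain ⟨c, hc⟩ := hres z
      exact ⟨c, hc⟩)
  rw [← h4, ← Matrix.rank_transpose]
  exact hrn

end

end K80.Jacobian
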