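import Mathlib.RingTheory.Smooth.Kaehler
import Mathlib.RingTheory.Unramified.Basic
import Mathlib.RingTheory.Ideal.Cotangent
import Mathlib.RingTheory.Kaehler.TensorProduct
import Mathlib.RingTheory.EssentialFiniteness
import Mathlib.RingTheory.LocalRing.Module
import Groth.Agent.CalgC.RegSmooth

/-!
# Differentials of a local algebra with trivial residue field extension
* `nonempty_cotangent_equiv`: for a local `k`-algebra `B` with `k → B/m` surjective, `m/m² ≃ κ ⊗ Ω[B⁄k]` over `κ`.
* `exists_model`: a local algebra essentially of finite type is a localization of a finite type subalgebra.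
* `formallySmooth_of_isRegularLocalRing`: a regular local `k`-algebra essentially of finite type over a field, with
  residue field formally smooth over `k`, is formally smooth.
-/

set_option autoImplicit false
universe u

namespace K80.KaehlerRational

open IsLocalRing TensorProduct KaehlerDifferential

section

variable (k B : Type u) [Field k] [CommRing B] [Algebra k B] [IsLocalRing B]

theorem nonempty_cotangent_equiv (hres : Function.Surjective (algebraMap k (ResidueField B))) :
    Nonempty (CotangentSpace B ≃ₗ[ResidueField B] (ResidueField B ⊗[B] Ω[B⁄k])) := by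
  have hsurj : Function.Surjective (algebraMap B (ResidueField B)) := residue_surjective
  have hker : maximalIdeal B = RingHom.ker (algebraMap B (ResidueField B)) := by
    ext x; exact (residue_eq_zero_iff x).symm
  have hunr : Algebra.FormallyUnramified k (ResidueField B) :=
    Algebra.FormallyUnramified.of_surjective (Algebra.ofId k (ResidueField B)) hres
  have hex := KaehlerDifferential.exact_kerCotangentToTensor_mapBaseChange k B (ResidueField B) hsurj
  have hs : Function.Surjective (kerCotangentToTensor k B (ResidueField B)) := by
    intro x
    exact (hex x).mp (Subsingleton.elim _ _)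
  let e0 : k ≃ₐ[k] ResidueField B := AlgEquiv.ofBijective (Algebra.ofId k (ResidueField B))
    ⟨(algebraMap k (ResidueField B)).injective, hres⟩
  let g : ResidueField B →ₐ[k] (B ⧸ RingHom.ker (algebraMap B (ResidueField B)) ^ 2) :=
    (Algebra.ofId k _).comp e0.symm.toAlgHom
  have hg : (IsScalarTower.toAlgHom k B (ResidueField B)).kerSquareLift.comp g =
      AlgHom.id k (ResidueField B) := by
    apply AlgHom.ext
    intro x
    obtain ⟨c, rfl⟩ := hres x
    simp only [AlgHom.commutes]
  let l := (retractionKerCotangentToTensorEquivSection (R := k) (P := B) (S := ResidueField B)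
    hsurj).symm ⟨g, hg⟩
  have hi : Function.Injective (kerCotangentToTensor k B (ResidueField B)) := by
    have := l.2
    intro x y hxy
    have h1 := LinearMap.congr_fun this x
    have h2 := LinearMap.congr_fun this y
    simp only [LinearMap.comp_apply, LinearMap.id_apply] at h1 h2
    rw [← h1, ← h2, hxy]
  let e1 : (maximalIdeal B).Cotangent ≃ₗ[B] (RingHom.ker (algebraMap B (ResidueField B))).Cotangent :=
    Ideal.Cotangent.equivOfEq _ _ hker
  let e2 : (RingHom.ker (algebraMap B (ResidueField B))).Cotangent ≃ₗ[B]
      (ResidueField B ⊗[B] Ω[B⁄k]) := LinearEquiv.ofBijective _ ⟨hi, hs⟩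
  let e3 : CotangentSpace B ≃ₗ[B] (ResidueField B ⊗[B] Ω[B⁄k]) := e1.trans e2
  exact ⟨e3.extendScalarsOfSurjective hsurj⟩

theorem finrank_cotangentSpace_eq (hres : Function.Surjective (algebraMap k (ResidueField B)))
    [Module.Free B Ω[B⁄k]] :
    Module.finrank (ResidueField B) (CotangentSpace B) = Module.finrank B Ω[B⁄k] := by
  obtain ⟨e⟩ := nonempty_cotangent_equiv k B hres
  rw [e.finrank_eq, Module.finrank_baseChange]

end

/-- A local ring essentially of finite type is a localization of a finite type subalgebra at a
prime. -/
theorem exists_model (A B : Type u) [CommRing A] [CommRing B] [Algebra A B]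
    [Algebra.EssFiniteType A B] [IsLocalRing B] :
    ∃ (S : Subalgebra A B) (q : Ideal S) (_ : q.IsPrime), Algebra.FiniteType A S ∧
      q = (maximalIdeal B).comap (algebraMap S B) ∧ IsLocalization.AtPrime B q := by
  let S := Algebra.EssFiniteType.subalgebra A B
  have hS : Algebra.FiniteType A S := inferInstance
  let q : Ideal S := (maximalIdeal B).comap (algebraMap S B)
  have hq : q.IsPrime := inferInstance
  have h : IsLocalization (Algebra.EssFiniteType.submonoid A B) B := inferInstance
  have h2 : (Algebra.EssFiniteType.submonoid A B) = q.primeCompl := by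
    ext x
    change IsUnit (algebraMap S B x) ↔ x ∉ q
    rw [Ideal.mem_comap, IsLocalRing.mem_maximalIdeal, mem_nonunits_iff, not_not]
  refine ⟨S, q, hq, hS, rfl, ?_⟩
  rw [h2] at h
  exact h

theorem formallySmooth_of_isRegularLocalRing (k B : Type u) [Field k] [CommRing B] [Algebra k B]
    [Algebra.EssFiniteType k B] [IsRegularLocalRing B] [Algebra.FormallySmooth k (ResidueField B)] :
    Algebra.FormallySmooth k B := by
  obtain ⟨S, q, hq, hS, -, hloc⟩ := exists_model k B
  let e : B ≃ₐ[S] Localization.AtPrime q := IsLocalization.algEquiv q.primeCompl _ _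
  obtain ⟨P, _, _, _, _, _, _, _, _, surj⟩ :=
    Groth.Agent.CalgC.RegSmooth.exists_presentation (k := k) q
  have hreg : IsRegularLocalRing (Localization.AtPrime q) :=
    IsRegularLocalRing.of_ringEquiv e.toRingEquiv
  let e' : ResidueField B ≃ₐ[k] ResidueField (Localization.AtPrime q) :=
    AlgEquiv.ofRingEquiv (f := IsLocalRing.ResidueField.mapEquiv e.toRingEquiv) (fun r => by
      rw [IsScalarTower.algebraMap_apply k B (ResidueField B),
        IsScalarTower.algebraMap_apply k (Localization.AtPrime q)
          (ResidueField (Localization.AtPrime q))]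
      change IsLocalRing.ResidueField.map (e.toRingEquiv : B →+* Localization.AtPrime q)
        (residue B _) = residue _ _
      rw [IsLocalRing.ResidueField.map_residue]
      congr 1
      exact (e.restrictScalars k).commutes r)
  have hfs : Algebra.FormallySmooth k (ResidueField (Localization.AtPrime q)) :=
    Algebra.FormallySmooth.of_equiv e'
  have : Algebra.FormallySmooth k (Localization.AtPrime q) :=
    Groth.Agent.CalgC.RegSmooth.formallySmooth_of_regular (k := k) surj hreg
  exact Algebra.FormallySmooth.of_equiv (e.restrictScalars k).symm

end K80.KaehlerRational
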