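import Groth.Agent.Ega41.Cartier2
import Mathlib.RingTheory.AdjoinRoot

/-!
# Differentials of a simple extension `E[T]/(P)`
* `ker_mapBaseChange_le_span`: over any base `k`, the kernel of `L ⊗ Ω[E⁄k] → Ω[L⁄k]`, `L = E[T]/(P)`, is contained in the
  line spanned by one element.
-/

set_option autoImplicit false
universe u

namespace K80.KaehlerSimple

open KaehlerDifferential TensorProduct

section

variable {k E L : Type u} [CommRing k] [Field E] [Algebra k E] [CommRing L] [Algebra k L] [Algebra E L]
  [IsScalarTower k E L] (x : L)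

/-- `g ↦ ∑ x^i ⊗ d a_i` for `g = ∑ a_i X^i`. -/
noncomputable def phi : Polynomial E →+ L ⊗[E] Ω[E⁄k] where
  toFun g := g.sum fun i a => (x ^ i) ⊗ₜ KaehlerDifferential.D k E a
  map_zero' := by simp
  map_add' g h := by
    rw [Polynomial.sum_add_index]
    · simp
    · intro i a b
      rw [map_add, TensorProduct.tmul_add]

theorem phi_monomial (n : ℕ) (a : E) :
    phi (k := k) x (Polynomial.monomial n a) = (x ^ n) ⊗ₜ KaehlerDifferential.D k E a := by
  change (Polynomial.monomial n a).sum
    (fun i a => (x ^ i) ⊗ₜ[E] KaehlerDifferential.D k E a) = _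
  rw [Polynomial.sum_monomial_index]
  simp

theorem phi_mul (g h : Polynomial E) :
    phi (k := k) x (g * h) = Polynomial.aeval x g • phi x h + Polynomial.aeval x h • phi x g := by
  induction g using Polynomial.induction_on' with
  | add g1 g2 h1 h2 =>
    rw [add_mul, map_add, h1, h2, map_add, map_add, add_smul, smul_add]
    abel
  | monomial n a =>
    induction h using Polynomial.induction_on' with
    | add h1 h2 e1 e2 =>
      rw [mul_add, map_add, e1, e2, map_add, map_add, add_smul, smul_add]
      abel
    | monomial m b =>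
      rw [Polynomial.monomial_mul_monomial, phi_monomial, phi_monomial, phi_monomial,
        Derivation.leibniz, Polynomial.aeval_monomial, Polynomial.aeval_monomial,
        TensorProduct.tmul_add, TensorProduct.tmul_smul, TensorProduct.tmul_smul,
        TensorProduct.smul_tmul', TensorProduct.smul_tmul', TensorProduct.smul_tmul',
        TensorProduct.smul_tmul', Algebra.smul_def, Algebra.smul_def, smul_eq_mul, smul_eq_mul,
        pow_add]
      congr 2 <;> ring

/-- The kernel of `L ⊗ Ω[E⁄k] → Ω[L⁄k]` is spanned by `phi P`, for `L = E[x]/(P)`. -/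
theorem ker_mapBaseChange_le_span (P : Polynomial E)
    (htop : Function.Surjective (Polynomial.aeval (R := E) x))
    (hP : ∀ a : Polynomial E, Polynomial.aeval x a = 0 → P ∣ a) (hP0 : Polynomial.aeval x P = 0) :
    LinearMap.ker (mapBaseChange k E L) ≤ Submodule.span L {phi (k := k) x P} := by
  intro ω hω
  let N := Submodule.span L {phi (k := k) x P}
  obtain ⟨D, hD⟩ := Groth.Agent.Ega41.Cartier2.exists_derivation_of_surjective
    (Q := (L ⊗[E] Ω[E⁄k]) ⧸ N)
    (Polynomial.aeval (R := E) x : Polynomial E →+* L) htop
    (N.mkQ.toAddMonoidHom.comp (phi (k := k) x)) (by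
      intro a b
      change N.mkQ (phi x (a * b)) = _ • N.mkQ (phi x b) + _ • N.mkQ (phi x a)
      rw [phi_mul, map_add, map_smul, map_smul]; rfl) (by
      intro a ha
      have ha' : Polynomial.aeval x a = 0 := ha
      obtain ⟨b, rfl⟩ := hP a ha'
      change N.mkQ (phi x _) = 0
      rw [phi_mul, hP0, zero_smul, zero_add]
      rw [Submodule.mkQ_apply, Submodule.Quotient.mk_eq_zero]
      exact Submodule.smul_mem _ _ (Submodule.mem_span_singleton_self _))
  have hDE : ∀ a : E, D (algebraMap E L a) = N.mkQ (1 ⊗ₜ KaehlerDifferential.D k E a) := by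
    intro a
    have := hD (Polynomial.C a)
    change D (Polynomial.aeval x (Polynomial.C a)) = N.mkQ (phi x (Polynomial.C a)) at this
    rw [Polynomial.aeval_C] at this
    rw [this, ← Polynomial.monomial_zero_left, phi_monomial, pow_zero]
  have hDk : ∀ c : k, D (algebraMap k L c) = 0 := by
    intro c
    rw [IsScalarTower.algebraMap_apply k E L, hDE]
    simp
  let Dk : Derivation k L ((L ⊗[E] Ω[E⁄k]) ⧸ N) :=
    Derivation.mk'
      { toFun := D
        map_add' := map_add D
        map_smul' := fun c y => by
          rw [Algebra.smul_def, D.leibniz, hDk, smul_zero, add_zero, RingHom.id_apply,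
            algebraMap_smul] }
      (fun a b => D.leibniz a b)
  have hcomp : Dk.liftKaehlerDifferential ∘ₗ mapBaseChange k E L = N.mkQ := by
    ext a
    have h1 : Dk (algebraMap E L a) = N.mkQ (1 ⊗ₜ KaehlerDifferential.D k E a) := hDE a
    simpa using h1
  have : N.mkQ ω = 0 := by
    rw [← hcomp, LinearMap.comp_apply, LinearMap.mem_ker.mp hω, map_zero]
  rwa [Submodule.mkQ_apply, Submodule.Quotient.mk_eq_zero] at this

end

end K80.KaehlerSimple
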