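import Mathlib
import Groth.Prelude.Def_CAlg
import Groth.Agent.CalgA.RegLoc
import Groth.Agent.Localalg.Wiebe
import Groth.Agent.Localalg.ExtLift
import Groth.Agent.Localalg.GorSocle
import Groth.Agent.Books.GorCyclic
import Groth.Agent.S0341
import Groth.Agent.S0342

/-!
# Almost complete intersections are not Gorenstein (Kunz)

`kunz`: let `A` be a regular local ring of dimension `n` and `I` an ideal generated by `n + 1` elements
with `A ⧸ I` Gorenstein of dimension zero.  Then `I` is generated by `n` elements.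
-/

set_option autoImplicit false

open IsLocalRing CategoryTheory
open scoped Pointwise Matrix

universe u

namespace K80.Kunz

open Groth.Agent.Localalg.Wiebe

section MF

variable {A : Type u} [CommRing A] [IsLocalRing A]

/-- A minimal matrix factorization of `c`, exact modulo `J`. -/
def Good (J : Ideal A) (c : A) : Prop :=
  ∃ (ι : Type) (_ : Fintype ι) (_ : DecidableEq ι) (_ : Nonempty ι) (D : Matrix ι ι A),
    D * D = c • (1 : Matrix ι ι A) ∧ (∀ i j, D i j ∈ maximalIdeal A) ∧
    ∀ p : ι → A, (∀ i, (D *ᵥ p) i ∈ J) → ∃ q : ι → A, ∀ i, p i - (D *ᵥ q) i ∈ J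

omit [IsLocalRing A] in
lemma mulVec_mem {ι : Type} [Fintype ι] (D : Matrix ι ι A) (J : Ideal A) (p : ι → A)
    (hp : ∀ i, p i ∈ J) (i : ι) : (D *ᵥ p) i ∈ J :=
  J.sum_mem fun j _ => J.mul_mem_left _ (hp j)

lemma Good.base {J : Ideal A} {f g : A} (hf : f ∈ maximalIdeal A) (hg : g ∈ maximalIdeal A)
    (h1 : ∀ x, f * x ∈ J → ∃ c, x - g * c ∈ J) (h2 : ∀ x, g * x ∈ J → ∃ c, x - f * c ∈ J) :
    Good J (f * g) := by
  refine ⟨Fin 2, inferInstance, inferInstance, inferInstance, !![0, f; g, 0], ?_, ?_, ?_⟩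
  · rw [Matrix.mul_fin_two]
    ext i j
    fin_cases i <;> fin_cases j <;> simp [mul_comm]
  · intro i j
    fin_cases i <;> fin_cases j <;> simp [hf, hg]
  · intro p hp
    have h3 := hp 0
    have h4 := hp 1
    simp [Matrix.mulVec, dotProduct, Fin.sum_univ_two] at h3 h4
    obtain ⟨c, hc⟩ := h1 _ h3
    obtain ⟨d, hd⟩ := h2 _ h4
    refine ⟨![c, d], ?_⟩
    intro i
    fin_cases i
    · simpa [Matrix.mulVec, dotProduct, Fin.sum_univ_two] using hd
    · simpa [Matrix.mulVec, dotProduct, Fin.sum_univ_two] using hc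

lemma Good.step {J : Ideal A} {c a y : A} (hc : c ∈ J) (hy : RegMod J y)
    (hym : y ∈ maximalIdeal A) (ham : a ∈ maximalIdeal A)
    (h : Good (J ⊔ Ideal.span {y}) (c + a * y)) : Good J c := by
  obtain ⟨ι, _, _, _, D, hD, hDm, hex⟩ := h
  refine ⟨ι ⊕ ι, inferInstance, inferInstance, inferInstance,
    Matrix.fromBlocks D (y • 1) (-a • 1) (-D), ?_, ?_, ?_⟩
  · rw [Matrix.fromBlocks_multiply, ← Matrix.fromBlocks_one, Matrix.fromBlocks_smul]
    congr 1
    · rw [hD]
      simp only [Matrix.smul_mul, Matrix.one_mul, Matrix.mul_smul, Matrix.mul_one, smul_smul]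
      rw [← add_smul]
      congr 1
      ring
    · simp
    · simp
    · rw [Matrix.neg_mul, Matrix.mul_neg, neg_neg, hD]
      simp only [Matrix.smul_mul, Matrix.one_mul, Matrix.mul_smul, Matrix.mul_one, smul_smul]
      rw [← add_smul]
      congr 1
      ring
  · rintro (i | i) (j | j)
    · simpa using! hDm i j
    · simp only [Matrix.fromBlocks_apply₁₂, Matrix.smul_apply, smul_eq_mul]
      exact Ideal.mul_mem_right _ _ hym
    · simp only [Matrix.fromBlocks_apply₂₁, Matrix.smul_apply, smul_eq_mul]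
      exact Ideal.mul_mem_right _ _ (Ideal.neg_mem_iff _ |>.2 ham)
    · simp only [Matrix.fromBlocks_apply₂₂, Matrix.neg_apply]
      exact Ideal.neg_mem_iff _ |>.2 (hDm i j)
  · intro P hP
    set p : ι → A := fun i => P (Sum.inl i) with hp
    set p' : ι → A := fun i => P (Sum.inr i) with hp'
    have hPe : P = Sum.elim p p' := by
      ext (i | i) <;> rfl
    have h1 : ∀ i, (D *ᵥ p) i + y * p' i ∈ J := by
      intro i
      have := hP (Sum.inl i)
      rw [hPe, Matrix.fromBlocks_mulVec] at this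
      simpa [Matrix.smul_mulVec] using this
    -- exactness modulo `J + (y)`
    obtain ⟨q, hq⟩ := hex p (fun i => by
      have h2 : (D *ᵥ p) i = ((D *ᵥ p) i + y * p' i) - y * p' i := by ring
      rw [h2]
      exact Ideal.sub_mem _ (Ideal.mem_sup_left (h1 i))
        (Ideal.mem_sup_right (Ideal.mul_mem_right _ _ (Ideal.mem_span_singleton_self _))))
    have hq2 : ∀ i, ∃ r, p i - (D *ᵥ q) i - y * r ∈ J := by
      intro i
      have := hq i
      rw [sup_comm, Ideal.mem_span_singleton_sup] at this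
      obtain ⟨r, b, hb, hrb⟩ := this
      refine ⟨r, ?_⟩
      rw [← hrb]
      have : r * y + b - y * r = b := by ring
      rw [this]; exact hb
    choose q' hq' using hq2
    refine ⟨Sum.elim q q', ?_⟩
    have hDD : D *ᵥ (D *ᵥ q) = (c + a * y) • q := by
      rw [Matrix.mulVec_mulVec, hD, Matrix.smul_mulVec, Matrix.one_mulVec]
    have hpe : p = (p - D *ᵥ q - y • q') + (D *ᵥ q + y • q') := by abel
    have key : ∀ i, p' i - (-a * q i - (D *ᵥ q') i) ∈ J := by
      intro i
      refine hy _ ?_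
      have h3 : (D *ᵥ (p - D *ᵥ q - y • q')) i ∈ J :=
        mulVec_mem D J _ (fun i => by simpa using hq' i) i
      have h4 : D *ᵥ p = D *ᵥ (p - D *ᵥ q - y • q') + ((c + a * y) • q + y • (D *ᵥ q')) := by
        conv_lhs => rw [hpe]
        rw [Matrix.mulVec_add, Matrix.mulVec_add, hDD, Matrix.mulVec_smul]
      have h5 := h1 i
      rw [h4] at h5
      simp only [Pi.add_apply, Pi.smul_apply, smul_eq_mul] at h5
      have h6 : y * (p' i - (-a * q i - (D *ᵥ q') i)) =
          ((D *ᵥ (p - D *ᵥ q - y • q')) i + ((c + a * y) * q i + y * (D *ᵥ q') i) + y * p' i) -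
            (D *ᵥ (p - D *ᵥ q - y • q')) i - c * q i := by ring
      rw [h6]
      exact J.sub_mem (J.sub_mem h5 h3) (J.mul_mem_right _ hc)
    rintro (i | i)
    · rw [Matrix.fromBlocks_mulVec]
      simp only [Sum.elim_comp_inl, Sum.elim_comp_inr, Sum.elim_inl, Pi.add_apply,
        Matrix.smul_mulVec, Matrix.one_mulVec, Pi.smul_apply, smul_eq_mul]
      have := hq' i
      have h7 : P (Sum.inl i) - ((D *ᵥ q) i + y * q' i) = p i - (D *ᵥ q) i - y * q' i := by
        rw [hp]; ring
      rw [h7]; exact this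
    · rw [Matrix.fromBlocks_mulVec]
      simp only [Sum.elim_comp_inl, Sum.elim_comp_inr, Sum.elim_inr, Pi.add_apply,
        Matrix.smul_mulVec, Matrix.one_mulVec, Pi.smul_apply, smul_eq_mul, Matrix.neg_mulVec,
        Pi.neg_apply]
      have := key i
      have h7 : P (Sum.inr i) - (-a * q i + -(D *ᵥ q') i) = p' i - (-a * q i - (D *ᵥ q') i) := by
        rw [hp']; ring
      rw [h7]; exact this

lemma Good.list (l : List (A × A)) : ∀ (J : Ideal A) (c : A), c ∈ J →
    WR J (l.map Prod.fst) → (∀ p ∈ l, p.1 ∈ maximalIdeal A ∧ p.2 ∈ maximalIdeal A) →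
    Good (J ⊔ Ideal.ofList (l.map Prod.fst)) (c + (l.map fun p => p.2 * p.1).sum) → Good J c := by
  induction l with
  | nil =>
    intro J c _ _ _ h
    simpa using h
  | cons p l ih =>
    intro J c hc hwr hm h
    rw [List.map_cons, WR] at hwr
    have hp := hm p List.mem_cons_self
    refine Good.step hc hwr.1 hp.1 hp.2 (ih _ _ ?_ hwr.2 (fun q hq => hm q (List.mem_cons_of_mem _ hq)) ?_)
    · exact Ideal.add_mem _ (Ideal.mem_sup_left hc)
        (Ideal.mem_sup_right (Ideal.mul_mem_left _ _ (Ideal.mem_span_singleton_self _)))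
    · rw [List.map_cons, Ideal.ofList_cons, List.map_cons, List.sum_cons, ← add_assoc, ← sup_assoc] at h
      exact h

end MF

section Fin

variable {A : Type u} [CommRing A]

lemma mem_smul_top {ι : Type} [Fintype ι] [DecidableEq ι] {I : Ideal A} {x : ι → A}
    (h : ∀ i, x i ∈ I) : x ∈ I • (⊤ : Submodule A (ι → A)) := by
  rw [pi_eq_sum_univ x]
  exact Submodule.sum_mem _ fun i _ => Submodule.smul_mem_smul (h i) trivial

/-- Over a regular local ring there is no exact minimal `1`-periodic complex of free modules. -/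
theorem not_good [IsRegularLocalRing A] : ¬ Good (⊥ : Ideal A) 0 := by
  rintro ⟨ι, _, _, _, D, hD, hDm, hex⟩
  obtain ⟨d, hd⟩ := Groth.Agent.CalgA.RegBasic.ringKrullDim_eq_natCast A
  set φ : (ι → A) →ₗ[A] (ι → A) := D.mulVecLin with hφ
  set Z := LinearMap.range φ with hZ
  have hφφ : ∀ p, φ (φ p) = 0 := by
    intro p
    rw [hφ, Matrix.mulVecLin_apply, Matrix.mulVecLin_apply, Matrix.mulVec_mulVec, hD]
    simp
  have hker : LinearMap.ker φ = Z := by
    apply le_antisymm
    · intro p hp
      rw [LinearMap.mem_ker] at hp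
      obtain ⟨q, hq⟩ := hex p (fun i => by
        rw [Ideal.mem_bot]
        exact congrFun hp i)
      refine ⟨q, ?_⟩
      ext i
      have := hq i
      rw [Ideal.mem_bot, sub_eq_zero] at this
      exact this.symm
    · rintro _ ⟨q, rfl⟩
      exact hφφ q
  have hZm : Z ≤ maximalIdeal A • (⊤ : Submodule A (ι → A)) := by
    rintro _ ⟨q, rfl⟩
    refine mem_smul_top fun i => ?_
    exact Ideal.sum_mem _ fun j _ => Ideal.mul_mem_right _ _ (hDm i j)
  -- short exact sequence `0 → Z → F → Z → 0`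
  have hexact : Function.Exact Z.subtype φ.rangeRestrict := by
    rw [LinearMap.exact_iff, LinearMap.ker_rangeRestrict, hker, Submodule.range_subtype]
  have hcomp : φ.rangeRestrict ∘ₗ Z.subtype = 0 := hexact.linearMap_comp_eq_zero
  have hS : (ModuleCat.shortComplexOfCompEqZero Z.subtype φ.rangeRestrict hcomp).ShortExact :=
    ModuleCat.shortComplex_shortExact _ hexact Z.injective_subtype φ.surjective_rangeRestrict
  have hpd : ∀ k : ℕ, HasProjectiveDimensionLT (ModuleCat.of A Z) (k + 1) →
      HasProjectiveDimensionLT (ModuleCat.of A Z) 1 := by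
    intro k
    induction k with
    | zero => exact id
    | succ k ih =>
      intro h
      refine ih (hS.hasProjectiveDimensionLT_X₁ (k + 1) ?_ h)
      have : Projective (ModuleCat.of A (ι → A)) := by
        rw [← IsProjective.iff_projective]
        infer_instance
      change HasProjectiveDimensionLT (ModuleCat.of A (ι → A)) (k + 1)
      infer_instance
  have hZp : Module.Projective A Z := by
    have h1 := hpd d (Groth.Agent.CalgA.RegSerre.PD_of_isRegularLocalRing A d hd Z)
    have h2 : Projective (ModuleCat.of A Z) := by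
      rw [projective_iff_hasProjectiveDimensionLT_one]
      exact h1
    exact (IsProjective.iff_projective Z).2 h2
  -- split
  obtain ⟨σ, hσ⟩ := Module.projective_lifting_property φ.rangeRestrict LinearMap.id
    φ.surjective_rangeRestrict
  have hsplit : ∀ z : Z, φ.rangeRestrict (σ z) = z := fun z => LinearMap.congr_fun hσ z
  have hZfg : Z.FG := (IsNoetherian.noetherian Z)
  -- retraction
  let ρ : (ι → A) →ₗ[A] Z := LinearMap.codRestrict Z (LinearMap.id - σ ∘ₗ φ.rangeRestrict) (by
    intro x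
    rw [← hker, LinearMap.mem_ker]
    have h1 := congrArg Subtype.val (hsplit (φ.rangeRestrict x))
    simp only [LinearMap.sub_apply, LinearMap.id_apply, LinearMap.comp_apply, map_sub]
    rw [sub_eq_zero]
    exact h1.symm)
  have hρ : ∀ z : Z, ρ z = z := by
    intro z
    ext1
    have h1 : φ.rangeRestrict (z : ι → A) = 0 := by
      ext1
      have : (z : ι → A) ∈ LinearMap.ker φ := by rw [hker]; exact z.2
      exact this
    change (z : ι → A) - σ (φ.rangeRestrict z) = z
    rw [h1, map_zero, sub_zero]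
  have htop : (⊤ : Submodule A Z) ≤ maximalIdeal A • (⊤ : Submodule A Z) := by
    intro z _
    rw [← hρ z]
    have h1 : (z : ι → A) ∈ maximalIdeal A • (⊤ : Submodule A (ι → A)) := hZm z.2
    have h2 := Submodule.mem_map_of_mem (f := ρ) h1
    rw [Submodule.map_smul''] at h2
    exact Submodule.smul_mono le_rfl le_top h2
  have hZ0 : (⊤ : Submodule A Z) = ⊥ := by
    refine Submodule.eq_bot_of_le_smul_of_le_jacobson_bot (maximalIdeal A) ⊤ ?_ htop
      (IsLocalRing.maximalIdeal_le_jacobson _)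
    exact Module.Finite.fg_top
  have hφ0 : ∀ p, φ p = 0 := by
    intro p
    have h1 : (⟨φ p, ⟨p, rfl⟩⟩ : Z) ∈ (⊤ : Submodule A Z) := trivial
    rw [hZ0, Submodule.mem_bot] at h1
    exact congrArg Subtype.val h1
  obtain ⟨i⟩ := (inferInstance : Nonempty ι)
  obtain ⟨q, hq⟩ := hex (Pi.single i 1) (fun j => by
    rw [Ideal.mem_bot]
    exact congrFun (hφ0 _) j)
  have h1 := hq i
  have h2 : (D *ᵥ q) i = 0 := congrFun (hφ0 q) i
  rw [h2, Ideal.mem_bot, sub_zero, Pi.single_eq_same] at h1
  exact one_ne_zero h1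

end Fin

section Duality

variable {B : Type u} [CommRing B]

lemma claim1 (h : HasInjectiveDimensionLT (ModuleCat.of B B) 1) (f b : B)
    (hb : ∀ x, f * x = 0 → b * x = 0) : ∃ c, b = c * f := by
  have hinj : Module.Injective B B := by
    rw [Module.injective_iff_injective_object]
    infer_instance
  let K : Ideal B := LinearMap.ker (LinearMap.toSpanSingleton B B f)
  let σ : (B ⧸ K) →ₗ[B] B := K.liftQ (LinearMap.toSpanSingleton B B f) le_rfl
  have hσ : Function.Injective σ := by
    rw [← LinearMap.ker_eq_bot]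
    exact Submodule.ker_liftQ_eq_bot _ _ _ le_rfl
  let τ : (B ⧸ K) →ₗ[B] B := K.liftQ (LinearMap.toSpanSingleton B B b) (by
    intro x hx
    rw [LinearMap.mem_ker, LinearMap.toSpanSingleton_apply, smul_eq_mul] at hx ⊢
    rw [mul_comm] at hx ⊢
    exact hb x hx)
  obtain ⟨g, hg⟩ := hinj.out σ hσ τ
  refine ⟨g 1, ?_⟩
  have h1 : τ (Submodule.Quotient.mk 1) = b := by
    rw [Submodule.liftQ_apply, LinearMap.toSpanSingleton_apply, one_smul]
  have h2 : σ (Submodule.Quotient.mk 1) = f • (1 : B) := by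
    rw [Submodule.liftQ_apply, LinearMap.toSpanSingleton_apply, one_smul, smul_eq_mul, mul_one]
  rw [← h1, ← hg, h2, map_smul, smul_eq_mul, mul_comm]

/-- Duality in a self-injective local ring of dimension zero with `B ⧸ (f)` self-injective. -/
theorem duality [IsLocalRing B] [IsNoetherianRing B]
    (hB : HasInjectiveDimensionLT (ModuleCat.of B B) 1) (f : B)
    [IsLocalRing (B ⧸ Ideal.span {f})]
    (hC : HasInjectiveDimensionLT (ModuleCat.of (B ⧸ Ideal.span {f}) (B ⧸ Ideal.span {f})) 1) :
    ∃ g : B, f * g = 0 ∧ (∀ x, f * x = 0 → ∃ c, x = c * g) ∧ ∀ x, g * x = 0 → ∃ c, x = c * f := by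
  set C := B ⧸ Ideal.span {f} with hCdef
  obtain ⟨σ, hσ, hσ'⟩ := Groth.Agent.Localalg.GorSocle.exists_socle_generator hC
  have hC0 := Groth.Agent.Localalg.GorDepth.krullDimLE_zero hC
  obtain ⟨τ, hτ⟩ := Ideal.Quotient.mk_surjective (σ 1)
  have hσ1 : σ 1 ≠ 0 := by
    intro h0
    have h1 : (1 : C ⧸ maximalIdeal C) = 0 := hσ (h0.trans (map_zero σ).symm)
    exact one_ne_zero h1
  -- essential socle
  have hess : ∀ x : C, x ≠ 0 → ∃ r, r * x = σ 1 := by
    intro x hx
    have : Nontrivial (Ideal.span {x} : Ideal C) := by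
      refine ⟨⟨⟨x, Ideal.mem_span_singleton_self x⟩, 0, ?_⟩⟩
      intro h0
      exact hx (congrArg Subtype.val h0)
    obtain ⟨e, he⟩ := Groth.Agent.Books.GorCyclic.exists_injective_residueField (A := C)
      (Ideal.span {x} : Ideal C)
    obtain ⟨c, hc⟩ := hσ' (e 1 : C) (fun a ha ↦ by
      have h1 : a • e 1 = 0 := by
        rw [← map_smul]
        have : a • (1 : C ⧸ maximalIdeal C) = 0 := by
          rw [Algebra.smul_def, mul_one]
          exact Ideal.Quotient.eq_zero_iff_mem.2 ha
        rw [this, map_zero]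
      exact congrArg Subtype.val h1)
    have he1 : (e 1 : C) ≠ 0 := by
      intro h0
      have h1 : (1 : C ⧸ maximalIdeal C) = 0 := he ((Subtype.ext h0).trans (map_zero e).symm)
      exact one_ne_zero h1
    have hcu : IsUnit c := by
      by_contra hnu
      have hcm : c ∈ maximalIdeal C := (mem_maximalIdeal c).2 hnu
      apply he1
      rw [hc, ← smul_eq_mul, ← map_smul]
      have : c • (1 : C ⧸ maximalIdeal C) = 0 := by
        rw [Algebra.smul_def, mul_one]
        exact Ideal.Quotient.eq_zero_iff_mem.2 hcm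
      rw [this, map_zero]
    obtain ⟨s, hs⟩ := Ideal.mem_span_singleton'.1 (e 1).2
    obtain ⟨u, rfl⟩ := hcu
    refine ⟨↑u⁻¹ * s, ?_⟩
    rw [mul_assoc, hs, hc, ← mul_assoc, Units.inv_mul, one_mul]
  -- the dual generator
  obtain ⟨g, hfg, hτg⟩ : ∃ g, f * g = 0 ∧ τ * g ≠ 0 := by
    by_contra hcon
    push Not at hcon
    obtain ⟨c, hc⟩ := claim1 hB f τ hcon
    apply hσ1
    rw [← hτ, hc]
    exact Ideal.Quotient.eq_zero_iff_mem.2 (Ideal.mul_mem_left _ _ (Ideal.mem_span_singleton_self _))
  have hann : ∀ x, g * x = 0 → ∃ c, x = c * f := by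
    intro x hx
    by_contra hcon
    have hxC : (Ideal.Quotient.mk (Ideal.span {f}) x) ≠ 0 := by
      rw [Ne, Ideal.Quotient.eq_zero_iff_mem, Ideal.mem_span_singleton']
      rintro ⟨c, hc⟩
      exact hcon ⟨c, hc.symm⟩
    obtain ⟨r, hr⟩ := hess _ hxC
    obtain ⟨r, rfl⟩ := Ideal.Quotient.mk_surjective r
    rw [← hτ, ← map_mul, Ideal.Quotient.mk_eq_mk_iff_sub_mem, Ideal.mem_span_singleton'] at hr
    obtain ⟨s, hs⟩ := hr
    apply hτg
    have h1 : τ * g = r * (g * x) - s * (f * g) := by
      have : τ = r * x - s * f := by rw [hs]; ring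
      rw [this]; ring
    rw [h1, hx, hfg]; ring
  refine ⟨g, hfg, fun y hy ↦ ?_, hann⟩
  refine claim1 hB g y fun x hx ↦ ?_
  obtain ⟨c, rfl⟩ := hann x hx
  have : y * (c * f) = c * (f * y) := by ring
  rw [this, hy, mul_zero]

end Duality

section Main

variable {A : Type u} [CommRing A]

open RingTheory.Sequence

/-- Choice of generators beginning with a regular sequence. -/
theorem exists_generators [IsRegularLocalRing A] (n : ℕ) (hn : ringKrullDim A = n) (I : Ideal A)
    (hIm : I ≤ maximalIdeal A) (N : ℕ) (hN : maximalIdeal A ^ N ≤ I) (hN0 : N ≠ 0)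
    (x : List A) (hx : x.length = n + 1) (hxI : Ideal.ofList x = I) :
    ∀ j : ℕ, j ≤ n → ∃ y z : List A, y.length = j ∧ z.length = n + 1 - j ∧ WR ⊥ y ∧
      (∀ a ∈ y, a ∈ maximalIdeal A) ∧ Ideal.ofList y ⊔ Ideal.ofList z = I := by
  have hG : LocCoh.IsGorensteinLocalRing A := Groth.Agent.S0342.result A
  intro j
  induction j with
  | zero =>
    intro _
    exact ⟨[], x, rfl, by simpa using hx, trivial, by simp, by simpa using hxI⟩
  | succ j ih =>
    intro hj
    obtain ⟨y, z, hy, hz, hwr, hym, hyz⟩ := ih (by omega)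
    obtain _ | ⟨z0, z⟩ := z
    · simp at hz; omega
    set J := Ideal.ofList y with hJ
    -- the quotient has positive dimension
    have hspan : Ideal.span (Set.range y.get) = J := by
      rw [← ofList_ofFn, List.ofFn_get]
    have hwr' : IsWeaklyRegular A (List.ofFn y.get) := by
      rw [List.ofFn_get]
      have h1 := (wr_iff y ⊥).2 hwr
      exact ((Submodule.quotEquivOfEqBot (⊥ : Submodule A A) rfl).isWeaklyRegular_congr y).1 h1
    obtain ⟨hGJ, hdim⟩ := Groth.Agent.Localalg.ExtLift.gorenstein_quotient y.get hwr'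
      (fun i => hym _ (List.get_mem y i))
    rw [hspan] at hGJ hdim
    have hpos : ¬ Ring.KrullDimLE 0 (A ⧸ J) := by
      intro h0
      have h1 : ringKrullDim (A ⧸ J) ≤ 0 := by
        have := (Ring.krullDimLE_iff (n := 0) (R := A ⧸ J)).1 h0
        simpa using this
      rw [hn, hy] at hdim
      have h2 : ((n : ℕ) : WithBot ℕ∞) ≤ (j : ℕ) := by
        rw [← hdim]
        calc ringKrullDim (A ⧸ J) + (j : WithBot ℕ∞) ≤ 0 + (j : WithBot ℕ∞) := by gcongr
          _ = _ := by simp
      have h3 : n ≤ j := by exact_mod_cast h2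
      omega
    obtain ⟨t, ht, htr⟩ := Groth.Agent.Localalg.GorDepth.exists_isSMulRegular hpos
    obtain ⟨t, rfl⟩ := Ideal.Quotient.mk_surjective t
    have htm : t ∈ maximalIdeal A := by
      by_contra hnu
      rw [mem_maximalIdeal, mem_nonunits_iff, not_not] at hnu
      exact (mem_maximalIdeal _).1 ht (hnu.map _)
    have hreg : RegMod J (t ^ N) := by
      rw [← isSMulRegular_iff]
      refine IsSMulRegular.pow N ?_
      have h2 := htr
      intro a b hab
      refine h2 ?_
      change (Ideal.Quotient.mk J t) • a = (Ideal.Quotient.mk J t) • b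
      have h3 : ∀ c : A ⧸ J, (Ideal.Quotient.mk J t) • c = t • c := by
        intro c
        rw [smul_eq_mul, Algebra.smul_def]; rfl
      rw [h3, h3]
      exact hab
    obtain ⟨w, hw, hwreg⟩ := exists_regMod J (Ideal.ofList z) z0 (t ^ N) hreg (by
      have h1 : t ^ N ∈ I := hN (Ideal.pow_mem_pow htm N)
      rw [← hyz, Ideal.ofList_cons] at h1
      rw [sup_comm]
      exact h1)
    have hIw : z0 + w ∈ I := by
      rw [← hyz, Ideal.ofList_cons]
      refine Ideal.add_mem _ ?_ ?_
      · exact Ideal.mem_sup_right (Ideal.mem_sup_left (Ideal.mem_span_singleton_self _))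
      · exact Ideal.mem_sup_right (Ideal.mem_sup_right hw)
    refine ⟨y ++ [z0 + w], z, by simp [hy], by simp at hz; omega, ?_, ?_, ?_⟩
    · rw [wr_concat]
      exact ⟨hwr, by rw [bot_sup_eq]; exact hwreg⟩
    · intro a ha
      rw [List.mem_append, List.mem_singleton] at ha
      rcases ha with ha | rfl
      · exact hym a ha
      · exact hIm hIw
    · rw [Ideal.ofList_append, Ideal.ofList_singleton, sup_assoc]
      apply le_antisymm
      · refine sup_le ?_ (sup_le ?_ ?_)
        · rw [← hyz]; exact le_sup_left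
        · rw [Ideal.span_singleton_le_iff_mem]; exact hIw
        · rw [← hyz, Ideal.ofList_cons]
          exact le_sup_of_le_right le_sup_right
      · rw [← hyz, Ideal.ofList_cons]
        refine sup_le le_sup_left (sup_le ?_ (le_sup_of_le_right le_sup_right))
        rw [Ideal.span_singleton_le_iff_mem]
        have h1 : (z0 + w) - w ∈ Ideal.ofList y ⊔ (Ideal.span {z0 + w} ⊔ Ideal.ofList z) := by
          refine Ideal.sub_mem _ ?_ ?_
          · exact Ideal.mem_sup_right (Ideal.mem_sup_left (Ideal.mem_span_singleton_self _))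
          · exact Ideal.mem_sup_right (Ideal.mem_sup_right hw)
        rwa [add_sub_cancel_right] at h1

lemma hasInjectiveDimensionLT_one_of_dim [hG : LocCoh.IsGorensteinLocalRing A]
    (h0 : ringKrullDim A ≤ 0) : HasInjectiveDimensionLT (ModuleCat.of A A) 1 := by
  obtain ⟨n, hn⟩ := LocCoh.IsGorensteinLocalRing.exists_hasInjectiveDimensionLT (A := A)
  have : Ring.KrullDimLE 0 A := (Ring.krullDimLE_iff (n := 0) (R := A)).2 (by simpa using h0)
  refine Groth.Agent.Localalg.GorDepth.hasInjectiveDimensionLT_one _ n hn fun x hx hreg => ?_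
  have hnil : IsNilpotent x := by
    rw [← mem_nilradical, nilradical_eq_sInf, Ideal.mem_sInf]
    intro J hJ
    have hJ' : J.IsPrime := hJ
    have : J.IsMaximal := Ring.krullDimLE_zero_iff.mp inferInstance J hJ'
    rw [IsLocalRing.eq_maximalIdeal this]
    exact hx
  obtain ⟨n, hn⟩ := hnil
  have h1 : IsSMulRegular A (x ^ n) := hreg.pow n
  rw [hn] at h1
  exact one_ne_zero (h1.right_eq_zero_of_smul (zero_smul A (1 : A)))

/-- Regular case of the theorem: `I = (y₁,…,yₙ,f)` with `y` a regular sequence. -/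
theorem kunz_aux [IsRegularLocalRing A] (n : ℕ) (hn : ringKrullDim A = n) (y : Fin n → A)
    (hy : WR ⊥ (List.ofFn y)) (hym : ∀ i, y i ∈ maximalIdeal A) (f : A) (hf : f ∈ maximalIdeal A)
    [hC : LocCoh.IsGorensteinLocalRing (A ⧸ (Ideal.span (Set.range y) ⊔ Ideal.span {f}))] :
    ∃ z : Fin n → A, Ideal.span (Set.range z) = Ideal.span (Set.range y) ⊔ Ideal.span {f} := by
  classical
  have hG : LocCoh.IsGorensteinLocalRing A := Groth.Agent.S0342.result A
  set J := Ideal.span (Set.range y) with hJ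
  have hwr' : IsWeaklyRegular A (List.ofFn y) := by
    have h1 := (wr_iff (List.ofFn y) ⊥).2 hy
    exact ((Submodule.quotEquivOfEqBot (⊥ : Submodule A A) rfl).isWeaklyRegular_congr _).1 h1
  obtain ⟨hB, hdim⟩ := Groth.Agent.Localalg.ExtLift.gorenstein_quotient y hwr' hym
  rw [← hJ] at hB hdim
  have hdimB : ringKrullDim (A ⧸ J) ≤ 0 := by
    obtain ⟨d, hd⟩ := Groth.Agent.CalgA.RegBasic.ringKrullDim_eq_natCast (A ⧸ J)
    rw [hd, hn] at hdim
    rw [hd]
    have h1 : d + n = n := by exact_mod_cast hdim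
    have h2 : d = 0 := by omega
    rw [h2]; simp
  set fb : A ⧸ J := Ideal.Quotient.mk J f with hfb
  let e : (A ⧸ J) ⧸ Ideal.span {fb} ≃+* A ⧸ (J ⊔ Ideal.span {f}) :=
    (Ideal.quotEquivOfEq (by rw [Ideal.map_span, Set.image_singleton])).trans
      (DoubleQuot.quotQuotEquivQuotSup J (Ideal.span {f}))
  have hC' : LocCoh.IsGorensteinLocalRing ((A ⧸ J) ⧸ Ideal.span {fb}) :=
    Groth.Agent.LoccohB.GorBasic.isGorensteinLocalRing_of_ringEquiv e.symm hC
  have hdimC : ringKrullDim ((A ⧸ J) ⧸ Ideal.span {fb}) ≤ 0 :=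
    (ringKrullDim_quotient_le _).trans hdimB
  obtain ⟨g, hfg, h1, h2⟩ := duality (hasInjectiveDimensionLT_one_of_dim hdimB) fb
    (hasInjectiveDimensionLT_one_of_dim hdimC)
  obtain ⟨g, rfl⟩ := Ideal.Quotient.mk_surjective g
  have hfgJ : f * g ∈ J := by
    rw [← Ideal.Quotient.eq_zero_iff_mem, map_mul]; exact hfg
  have h1' : ∀ x, f * x ∈ J → ∃ c, x - g * c ∈ J := by
    intro x hx
    obtain ⟨c, hc⟩ := h1 (Ideal.Quotient.mk J x) (by
      rw [hfb, ← map_mul]; exact Ideal.Quotient.eq_zero_iff_mem.2 hx)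
    obtain ⟨c, rfl⟩ := Ideal.Quotient.mk_surjective c
    refine ⟨c, ?_⟩
    rw [← Ideal.Quotient.mk_eq_mk_iff_sub_mem, hc, ← map_mul, mul_comm]
  have h2' : ∀ x, g * x ∈ J → ∃ c, x - f * c ∈ J := by
    intro x hx
    obtain ⟨c, hc⟩ := h2 (Ideal.Quotient.mk J x) (by
      rw [← map_mul]; exact Ideal.Quotient.eq_zero_iff_mem.2 hx)
    obtain ⟨c, rfl⟩ := Ideal.Quotient.mk_surjective c
    refine ⟨c, ?_⟩
    rw [← Ideal.Quotient.mk_eq_mk_iff_sub_mem, hc, hfb, ← map_mul, mul_comm]
  by_cases hg : g ∈ maximalIdeal A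
  swap
  · -- `g` is a unit
    rw [mem_maximalIdeal, mem_nonunits_iff, not_not] at hg
    obtain ⟨u, rfl⟩ := hg
    refine ⟨y, (sup_eq_left.2 ?_).symm⟩
    rw [Ideal.span_singleton_le_iff_mem]
    have h3 : f = ↑u⁻¹ * (f * u) := by
      rw [mul_comm f, ← mul_assoc, Units.inv_mul, one_mul]
    rw [h3]; exact J.mul_mem_left _ hfgJ
  obtain ⟨a, ha⟩ := Ideal.mem_span_range_iff_exists_fun.1 hfgJ
  by_cases ham : ∀ i, a i ∈ maximalIdeal A
  · -- contradiction
    exfalso
    have hgood := Good.base hf hg h1' h2'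
    set l : List (A × A) := List.ofFn fun i => (y i, a i) with hl
    have hl1 : l.map Prod.fst = List.ofFn y := by
      rw [hl, List.map_ofFn]; rfl
    have hl2 : (l.map fun p => p.2 * p.1).sum = f * g := by
      rw [hl, List.map_ofFn, List.sum_ofFn, ← ha]; rfl
    refine not_good (A := A) (Good.list l ⊥ 0 (Submodule.zero_mem _) (by rw [hl1]; exact hy) ?_ ?_)
    · intro p hp
      rw [hl, List.mem_ofFn] at hp
      obtain ⟨i, rfl⟩ := hp
      exact ⟨hym i, ham i⟩
    · rw [hl1, hl2, zero_add, bot_sup_eq, ofList_ofFn]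
      exact hgood
  · -- some coefficient is a unit
    push Not at ham
    obtain ⟨j, hj⟩ := ham
    rw [mem_maximalIdeal, mem_nonunits_iff, not_not] at hj
    refine ⟨Function.update y j f, ?_⟩
    apply le_antisymm
    · rw [Ideal.span_le]
      rintro _ ⟨i, rfl⟩
      by_cases hij : i = j
      · subst hij
        rw [Function.update_self]
        exact Ideal.mem_sup_right (Ideal.mem_span_singleton_self _)
      · rw [Function.update_of_ne hij]
        exact Ideal.mem_sup_left (Ideal.subset_span ⟨i, rfl⟩)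
    · set L := Ideal.span (Set.range (Function.update y j f)) with hL
      have hfL : f ∈ L := Ideal.subset_span ⟨j, Function.update_self _ _ _⟩
      have hyL : ∀ i, i ≠ j → y i ∈ L := fun i hij =>
        Ideal.subset_span ⟨i, Function.update_of_ne hij _ _⟩
      have hyj : y j ∈ L := by
        obtain ⟨u, hu⟩ := hj
        have h3 : a j * y j = f * g - ∑ i ∈ Finset.univ.erase j, a i * y i := by
          rw [← ha, ← Finset.add_sum_erase _ _ (Finset.mem_univ j)]; ring
        have h4 : a j * y j ∈ L := by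
          rw [h3]
          refine L.sub_mem (L.mul_mem_right _ hfL) (L.sum_mem fun i hi => ?_)
          exact L.mul_mem_left _ (hyL i (Finset.ne_of_mem_erase hi))
        have h5 : y j = ↑u⁻¹ * (a j * y j) := by
          rw [← hu, ← mul_assoc, Units.inv_mul, one_mul]
        rw [h5]; exact L.mul_mem_left _ h4
      refine sup_le ?_ ?_
      · rw [hJ, Ideal.span_le]
        rintro _ ⟨i, rfl⟩
        by_cases hij : i = j
        · subst hij; exact hyj
        · exact hyL i hij
      · rw [Ideal.span_singleton_le_iff_mem]; exact hfL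

/-- **Kunz**: almost complete intersections are not Gorenstein. -/
theorem kunz (A : Type u) [CommRing A] [IsRegularLocalRing A] (n : ℕ) (hn : ringKrullDim A = n)
    (x : Fin (n + 1) → A) (hx : ∀ i, x i ∈ maximalIdeal A)
    (h0 : ringKrullDim (A ⧸ Ideal.span (Set.range x)) = 0)
    [hI : LocCoh.IsGorensteinLocalRing (A ⧸ Ideal.span (Set.range x))] :
    ∃ y : Fin n → A, Ideal.span (Set.range y) = Ideal.span (Set.range x) := by
  set I := Ideal.span (Set.range x) with hIdef
  have hIm : I ≤ maximalIdeal A := by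
    rw [hIdef, Ideal.span_le]
    rintro _ ⟨i, rfl⟩
    exact hx i
  -- `I` is primary to the maximal ideal
  obtain ⟨N, hN, hN0⟩ : ∃ N : ℕ, maximalIdeal A ^ N ≤ I ∧ N ≠ 0 := by
    have h1 : Ring.KrullDimLE 0 (A ⧸ I) := (Ring.krullDimLE_iff (n := 0) (R := A ⧸ I)).2 (by
      rw [h0]; simp)
    have h2 : maximalIdeal A ≤ I.radical := by
      rw [Ideal.radical_eq_sInf]
      refine le_sInf ?_
      rintro P ⟨hIP, hP⟩
      have hP' : (P.map (Ideal.Quotient.mk I)).IsPrime :=
        Ideal.map_isPrime_of_surjective Ideal.Quotient.mk_surjective (by rwa [Ideal.mk_ker])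
      have hmax : (P.map (Ideal.Quotient.mk I)).IsMaximal :=
        Ring.krullDimLE_zero_iff.mp h1 _ hP'
      have hmax' : ((P.map (Ideal.Quotient.mk I)).comap (Ideal.Quotient.mk I)).IsMaximal :=
        Ideal.comap_isMaximal_of_surjective _ Ideal.Quotient.mk_surjective
      rw [Ideal.comap_map_of_surjective _ Ideal.Quotient.mk_surjective, ← RingHom.ker_eq_comap_bot,
        Ideal.mk_ker, sup_eq_left.2 hIP] at hmax'
      rw [IsLocalRing.eq_maximalIdeal hmax']
    obtain ⟨N, hN⟩ := Ideal.exists_pow_le_of_le_radical_of_fg h2 (IsNoetherian.noetherian _)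
    exact ⟨N + 1, (Ideal.pow_le_pow_right (Nat.le_succ N)).trans hN, Nat.succ_ne_zero _⟩
  obtain ⟨y, z, hy, hz, hwr, hym, hyz⟩ := exists_generators n hn I hIm N hN hN0 (List.ofFn x)
    (List.length_ofFn) (by rw [ofList_ofFn]) n le_rfl
  have hz1 : z.length = 1 := by omega
  obtain ⟨f, rfl⟩ := List.length_eq_one_iff.1 hz1
  rw [Ideal.ofList_singleton] at hyz
  subst hy
  have hspan : Ideal.span (Set.range y.get) = Ideal.ofList y := by
    rw [← ofList_ofFn, List.ofFn_get]
  rw [← hspan] at hyz
  have hC : LocCoh.IsGorensteinLocalRing (A ⧸ (Ideal.span (Set.range y.get) ⊔ Ideal.span {f})) := by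
    rw [hyz]; exact hI
  obtain ⟨w, hw⟩ := kunz_aux y.length hn y.get (by rw [List.ofFn_get]; exact hwr)
    (fun i => hym _ (List.get_mem y i)) f (hIm (by
      rw [← hyz]; exact Ideal.mem_sup_right (Ideal.mem_span_singleton_self _)))
  exact ⟨w, hw.trans hyz⟩

end Main

end K80.Kunz
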